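import Cfsg.Agent.Lib.Compute.SchurDefs

/-! Tail certificates for the multiplier of the group on 4060 points. -/

set_option autoImplicit false
set_option maxRecDepth 100000

namespace Cfsg.Agent.RigidGraph.Ru.Mult

open Cfsg.Agent.PermSchur

/-- a sparse vector -/
def sv : Nat → List (Nat × Int) → List Int
  | n, [] => List.replicate n 0
  | n, e :: es => (sv n es).set e.1 e.2

/-- sequence words at 29 -/
def p29W : List (List ℕ) :=
  [[1, 1, 0, 0, 1, 1, 0, 0, 1, 0, 2, 2, 3, 3, 2, 3, 3, 3, 2, 2, 2, 2, 2, 4, 5, 5, 5, 4, 4, 5, 5, 5, 4, 5, 5, 3, 3]]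

/-- conjugating words at 29 -/
def p29FW : List (List ℕ) :=
  []

/-- the rules at 29 -/
def p29Data : SchurData where
  p := 29
  a := List.replicate 1 (0, 0)
  derived := []
  levels := []
  pow := [[]]
  comm := [[]]
  ords := [29]
  fus := []
  nv := 1
  rels := []
  rows := []
  gs := []
  elts := []
  commWit := [[]]
  conjWit := [[]]
  ext := []

/-- power witnesses at 29 -/
def p29ChainP : List (List Nat) :=
  []

/-- conjugation witnesses at 29 -/
def p29ChainC : List (List (List Nat)) :=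
  []

/-- powers in the reversed sequence at 29 -/
def p29PW : List (List ℕ) :=
  [[]]

/-- conjugates in the reversed sequence at 29 -/
def p29CW : List (List (List ℕ)) :=
  [[]]

/-- sequence words at 13 -/
def p13W : List (List ℕ) :=
  [[0, 1, 1, 0, 0, 0, 1, 1, 0, 0, 0, 1, 0, 3, 3, 2, 2, 2, 2, 2, 3, 3, 3, 3, 2, 2, 2, 4, 4, 4, 4, 4, 5, 5, 5, 4, 5, 4, 5, 5]]

/-- conjugating words at 13 -/
def p13FW : List (List ℕ) :=
  []

/-- the rules at 13 -/
def p13Data : SchurData where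
  p := 13
  a := List.replicate 1 (0, 0)
  derived := []
  levels := []
  pow := [[]]
  comm := [[]]
  ords := [13]
  fus := []
  nv := 1
  rels := []
  rows := []
  gs := []
  elts := []
  commWit := [[]]
  conjWit := [[]]
  ext := []

/-- power witnesses at 13 -/
def p13ChainP : List (List Nat) :=
  []

/-- conjugation witnesses at 13 -/
def p13ChainC : List (List (List Nat)) :=
  []

/-- powers in the reversed sequence at 13 -/
def p13PW : List (List ℕ) :=
  [[]]

/-- conjugates in the reversed sequence at 13 -/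
def p13CW : List (List (List ℕ)) :=
  [[]]

/-- sequence words at 7 -/
def p7W : List (List ℕ) :=
  [[1, 1, 1, 1, 1, 0, 0, 1, 1, 1, 3, 2, 2, 2, 2, 3, 2, 2, 3, 3, 2, 4, 4, 5, 5, 5, 4, 4, 4, 5, 4, 4, 5, 3, 3]]

/-- conjugating words at 7 -/
def p7FW : List (List ℕ) :=
  []

/-- the rules at 7 -/
def p7Data : SchurData where
  p := 7
  a := List.replicate 1 (0, 0)
  derived := []
  levels := []
  pow := [[]]
  comm := [[]]
  ords := [7]
  fus := []
  nv := 1
  rels := []
  rows := []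
  gs := []
  elts := []
  commWit := [[]]
  conjWit := [[]]
  ext := []

/-- power witnesses at 7 -/
def p7ChainP : List (List Nat) :=
  []

/-- conjugation witnesses at 7 -/
def p7ChainC : List (List (List Nat)) :=
  []

/-- powers in the reversed sequence at 7 -/
def p7PW : List (List ℕ) :=
  [[]]

/-- conjugates in the reversed sequence at 7 -/
def p7CW : List (List (List ℕ)) :=
  [[]]

/-- sequence words at 5 -/
def p5W : List (List ℕ) :=
  [[1, 1, 0, 1, 0, 0, 0, 0, 1, 0, 0, 0, 3, 2, 3, 3, 3, 2, 3, 3, 2, 2, 3, 3, 3, 2, 5, 5, 4, 4, 5, 4, 5, 4, 5, 4, 4, 5, 4, 5, 3, 5], [2, 3, 3, 2, 3, 3, 2, 2, 3, 2, 2, 5, 4, 5, 5, 4, 4, 4, 4, 4, 5, 5, 3, 3], [2, 2, 4, 4, 5, 4, 4, 5, 5, 4, 4, 4, 4, 4, 5, 3, 5]]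

/-- conjugating words at 5 -/
def p5FW : List (List ℕ) :=
  [[1, 1, 0, 1, 0, 0, 0, 0, 1, 0, 0, 0, 3, 2, 2, 3, 3, 3, 2, 2, 2, 3, 2, 2, 5, 5, 4, 5, 4, 5, 4, 5, 5, 4, 5, 4, 3, 5, 3], [2, 3, 2, 3, 3, 3, 2, 2, 3, 3, 2, 2, 4, 5, 4, 5, 4, 4, 4, 4, 4, 5, 4, 5, 3, 3]]

/-- part of the data -/
def p5Rels0 : List (Rel) :=
  [.assoc [2] [0, 0, 0, 0] [0],
    .assoc [2] [1, 1, 1, 1] [1],
    .assoc [1] [0, 0, 0, 0] [0],
    .fuse 0 [0, 0, 0, 0, 0] [],
    .fuse 0 [1, 1, 1, 1, 1] [],
    .fuse 0 [1, 0] [0, 1],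
    .fuse 1 [0, 0, 0, 0, 0] [],
    .fuse 1 [1, 1, 1, 1, 1] [],
    .fuse 1 [1, 0] [0, 1, 2],
    .fuse 1 [2, 0] [0, 2]]

/-- part of the data -/
def p5Rows0 : List (Nat × List Int × List (Nat × Int)) :=
  [(10, (sv 11 [(3, -2), (10, 1)]), [(8, -1)]),
    (9, (sv 11 [(1, 2), (9, 5)]), [(7, 1)]),
    (8, (sv 11 [(1, 3), (2, 6), (3, 10), (4, 10), (5, 25), (8, 5)]), [(6, 1)]),
    (7, (sv 11 [(1, -1), (2, 3), (7, 5)]), [(4, 1)]),
    (6, (sv 11 [(1, 2), (2, -2), (5, 20), (6, 5)]), [(3, 1)]),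
    (5, (sv 11 [(5, 1)]), [(1, -3), (5, 1)]),
    (4, (sv 11 [(4, 1)]), [(0, 1), (1, -54), (5, 18), (9, -2)]),
    (3, (sv 11 [(2, 1), (3, 5)]), [(0, -2), (2, 1)])]

/-- the rules at 5 -/
def p5Data : SchurData where
  p := 5
  a := List.replicate 3 (0, 0)
  derived := []
  levels := []
  pow := [[], [], []]
  comm := [[], [[0, 1, 2]], [[0, 2], [1, 2]]]
  ords := [5, 5, 5]
  fus := [⟨(0, 0), [[1, 1, 2, 2, 2, 2], [1]], [[1, 1, 1, 1, 2, 2], [2, 2, 2]]⟩, ⟨(0, 0), [[0], [1], [2]], [[0, 1, 1, 1, 2, 2, 2, 2], [1, 1, 1], [2, 2, 2]]⟩]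
  nv := 11
  rels := ([p5Rels0] : List (List (Rel))).flatten
  rows := ([p5Rows0] : List (List (Nat × List Int × List (Nat × Int)))).flatten
  gs := [([2], (sv 11 [(3, 1)]))]
  elts := []
  commWit := [[], [[0]], [[], []]]
  conjWit := [[[0]], [[0]], [[0]]]
  ext := []

/-- power witnesses at 5 -/
def p5ChainP : List (List Nat) :=
  [[]]

/-- conjugation witnesses at 5 -/
def p5ChainC : List (List (List Nat)) :=
  [[]]

/-- powers in the reversed sequence at 5 -/
def p5PW : List (List ℕ) :=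
  [[], [], []]

/-- conjugates in the reversed sequence at 5 -/
def p5CW : List (List (List ℕ)) :=
  [[], [[0]], [[0], [0, 0, 0, 0, 1]]]

/-- sequence words at 3 -/
def p3W : List (List ℕ) :=
  [[2, 3, 2, 2, 3, 3, 2, 2, 2, 2, 2, 2, 4, 4, 5, 5, 4, 5, 5, 4, 4, 4, 4, 3, 3], [3, 3, 3, 2, 3, 3, 2, 2, 3, 2, 2, 2, 4, 5, 5, 4, 5, 4, 5, 4, 3, 5, 3, 3], [3, 3, 3, 2, 3, 3, 2, 2, 2, 2, 4, 5, 5, 4, 5, 4, 4, 4, 4, 5]]

/-- conjugating words at 3 -/
def p3FW : List (List ℕ) :=
  [[3, 2, 3, 3, 2, 2, 3, 3, 3, 2, 3, 3, 3, 2, 2, 2, 4, 5, 5, 4, 4, 4, 4, 4, 4, 3, 5, 3, 3]]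

/-- part of the data -/
def p3Rels0 : List (Rel) :=
  [.assoc [2] [0, 0] [0],
    .assoc [2] [1, 1] [1],
    .assoc [1] [0, 0] [0],
    .fuse 0 [0, 0, 0] [],
    .fuse 0 [1, 1, 1] [],
    .fuse 0 [1, 0] [0, 1, 2],
    .fuse 0 [2, 0] [0, 2],
    .fuse 0 [2, 1] [1, 2]]

/-- part of the data -/
def p3Rows0 : List (Nat × List Int × List (Nat × Int)) :=
  [(8, (sv 9 [(2, 1), (3, 3), (4, 1), (5, 3), (8, 1)]), [(5, -1)]),
    (7, (sv 9 [(0, 2), (1, 1), (2, 3), (3, 6), (4, 2), (5, 10), (7, 3)]), [(4, 1)]),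
    (6, (sv 9 [(1, 2), (2, 1), (3, 3), (4, 2), (5, 5), (6, 3)]), [(3, 1)]),
    (5, (sv 9 [(5, 1)]), [(1, 1), (6, -1)]),
    (4, (sv 9 [(4, 1)]), [(0, 1), (1, 1), (6, -1), (7, -1)]),
    (3, (sv 9 [(2, 1), (3, 3)]), [(0, -1), (2, 1)])]

/-- the rules at 3 -/
def p3Data : SchurData where
  p := 3
  a := List.replicate 3 (0, 0)
  derived := []
  levels := []
  pow := [[], [], []]
  comm := [[], [[0, 1, 2]], [[0, 2], [1, 2]]]
  ords := [3, 3, 3]
  fus := [⟨(0, 0), [[0], [1], [2]], [[0, 1, 1], [0, 0, 1, 1, 2], [2]]⟩]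
  nv := 9
  rels := ([p3Rels0] : List (List (Rel))).flatten
  rows := ([p3Rows0] : List (List (Nat × List Int × List (Nat × Int)))).flatten
  gs := [([2], (sv 9 [(3, 1)]))]
  elts := []
  commWit := [[], [[0]], [[], []]]
  conjWit := [[[0]], [[0]], [[0]]]
  ext := []

/-- power witnesses at 3 -/
def p3ChainP : List (List Nat) :=
  [[]]

/-- conjugation witnesses at 3 -/
def p3ChainC : List (List (List Nat)) :=
  [[]]

/-- powers in the reversed sequence at 3 -/
def p3PW : List (List ℕ) :=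
  [[], [], []]

/-- conjugates in the reversed sequence at 3 -/
def p3CW : List (List (List ℕ)) :=
  [[], [[0]], [[0], [0, 0, 1]]]

/-- sequence words at 2 -/
def p2W : List (List ℕ) :=
  [[0, 0, 0, 0, 0, 1, 0, 1, 0, 0, 2, 3, 2, 3, 3, 3, 2, 3, 3, 2, 2, 5, 5, 5, 4, 5, 4, 5, 4, 5, 4, 4, 3, 3, 3], [2, 3, 3, 2, 2, 2, 3, 3, 2, 3, 3, 3, 2, 2, 5, 5, 4, 5, 4, 4, 5, 5, 4, 3], [0, 1, 0, 0, 0, 0, 0, 0, 0, 0, 1, 3, 2, 2, 3, 3, 3, 2, 3, 2, 2, 2, 2, 2, 5, 4, 5, 5, 5, 4, 5, 5, 5, 4, 5, 3], [3, 2, 3, 3, 2, 2, 3, 2, 3, 2, 2, 4, 4, 5, 4, 4, 5, 4, 4, 5, 5, 4, 3, 3, 3], [2, 2, 2, 3, 3, 2, 3, 3, 2, 3, 2, 2, 5, 5, 4, 5, 5, 4, 5, 5, 4, 3, 3, 5, 3], [0, 0, 0, 1, 0, 0, 2, 3, 3, 2, 2, 2, 2, 3, 2, 3, 3, 2, 2, 5, 5, 4, 5, 4, 4, 5, 5, 4, 3, 3, 5, 3], [0, 0, 1, 0, 0, 0, 0, 1, 1, 1, 3, 3, 3, 3, 3, 2, 2, 2, 2, 3, 3, 2, 2, 4, 4, 5, 4, 5, 4, 4, 3, 5], [0, 0, 0, 0, 1, 1, 1, 1, 0, 2, 2, 2, 3, 3, 2, 3, 3, 2, 2, 2, 5, 4, 5, 4, 5, 4, 5, 4, 4, 3, 3, 3], [0, 0, 0, 1, 1, 1, 0, 0, 0, 1, 1,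 2, 3, 2, 2, 2, 2, 3, 2, 2, 4, 4, 4, 5, 4, 4, 5, 5, 4, 4, 5, 3, 5], [1, 1, 0, 1, 0, 0, 1, 1, 1, 0, 0, 2, 2, 3, 3, 2, 2, 3, 3, 2, 3, 2, 2, 5, 4, 4, 4, 5, 4, 5, 5, 4, 4, 5, 3, 3], [0, 1, 0, 1, 0, 1, 1, 1, 0, 0, 0, 0, 2, 3, 3, 2, 2, 2, 2, 2, 2, 3, 3, 2, 2, 4, 4, 5, 4, 5, 5, 4, 5, 4, 4, 4, 3, 5], [0, 1, 1, 0, 0, 1, 1, 0, 2, 3, 2, 2, 2, 3, 3, 2, 2, 2, 2, 3, 2, 2, 5, 5, 5, 4, 4, 5, 4, 4, 5, 5, 3, 3], [1, 1, 1, 0, 1, 0, 1, 0, 1, 1, 1, 0, 3, 3, 3, 2, 3, 3, 2, 2, 3, 2, 2, 2, 4, 5, 5, 4, 4, 4, 4, 4, 3, 3, 5, 3], [1, 1, 1, 1, 1, 1, 0, 1, 1, 0, 1, 3, 2, 3, 3, 3, 3, 3, 2, 2, 3, 3, 2, 5, 4, 5, 5, 4, 4, 4, 4, 4, 4, 4, 3, 5]]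

/-- conjugating words at 2 -/
def p2FW : List (List ℕ) :=
  [[0, 0, 0, 0, 0, 1, 0, 1, 2, 2, 2, 2, 2, 2, 3, 3, 3, 2, 4, 5, 4, 5, 5, 4, 4, 5, 5, 4, 4, 4, 5], [0, 0, 1, 1, 1, 0, 0, 0, 0, 2, 3, 3, 3, 3, 2, 2, 2, 2, 3, 3, 2, 2, 4, 5, 5, 4, 5, 5, 4, 5, 4, 4, 4, 5, 3]]

/-- part of the data -/
def p2Rels0 : List (Rel) :=
  [.assoc [5] [5] [5],
    .assoc [6] [6] [6],
    .assoc [7] [7] [7],
    .assoc [8] [4] [1],
    .assoc [8] [8] [8],
    .assoc [9] [8] [4],
    .assoc [9] [8] [7],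
    .assoc [10] [2] [1],
    .assoc [10] [6] [1],
    .assoc [10] [6] [5],
    .assoc [10] [7] [6],
    .assoc [10] [8] [2],
    .assoc [10] [8] [6],
    .assoc [11] [4] [1],
    .assoc [11] [5] [3],
    .assoc [11] [8] [7],
    .assoc [12] [7] [4],
    .assoc [6] [5] [3],
    .assoc [9] [6] [5],
    .assoc [10] [7] [1]]

/-- part of the data -/
def p2Rels1 : List (Rel) :=
  [.assoc [12] [5] [2],
    .assoc [6] [5] [5],
    .assoc [6] [6] [5],
    .assoc [8] [7] [1],
    .assoc [9] [2] [1],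
    .assoc [9] [4] [1],
    .assoc [9] [7] [6],
    .assoc [10] [7] [3],
    .assoc [11] [2] [1],
    .assoc [3] [1] [1],
    .assoc [3] [3] [1],
    .assoc [5] [3] [3],
    .assoc [9] [1] [1],
    .assoc [9] [4] [4],
    .assoc [9] [9] [1],
    .assoc [10] [3] [3],
    .assoc [10] [10] [0],
    .assoc [10] [7] [4],
    .assoc [9] [6] [1],
    .assoc [9] [7] [1]]

/-- part of the data -/
def p2Rels2 : List (Rel) :=
  [.assoc [6] [5] [0],
    .assoc [10] [5] [3],
    .assoc [6] [6] [0],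
    .assoc [7] [4] [1],
    .assoc [7] [5] [5],
    .assoc [6] [5] [2],
    .assoc [5] [5] [0],
    .assoc [7] [1] [1],
    .assoc [4] [2] [1],
    .assoc [9] [2] [2],
    .assoc [8] [4] [2],
    .assoc [7] [7] [1],
    .assoc [7] [3] [1],
    .assoc [5] [3] [2],
    .assoc [5] [4] [1],
    .assoc [6] [3] [1],
    .assoc [8] [7] [0],
    .assoc [5] [2] [1],
    .assoc [6] [3] [0],
    .assoc [5] [3] [1]]

/-- part of the data -/
def p2Rels3 : List (Rel) :=
  [.assoc [7] [4] [2],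
    .assoc [7] [4] [0],
    .assoc [3] [2] [1],
    .assoc [8] [4] [0],
    .assoc [8] [3] [0],
    .assoc [8] [1] [0],
    .assoc [4] [4] [0],
    .assoc [3] [3] [0],
    .assoc [4] [2] [2],
    .assoc [3] [3] [2],
    .assoc [7] [1] [0],
    .assoc [5] [0] [0],
    .assoc [4] [2] [0],
    .assoc [1] [1] [0],
    .assoc [4] [1] [0],
    .assoc [3] [2] [0],
    .assoc [0] [0] [0],
    .assoc [3] [0] [0],
    .assoc [3] [1] [0],
    .assoc [1] [0] [0]]

/-- part of the data -/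
def p2Rels4 : List (Rel) :=
  [.fuse 0 [0, 0] [4, 6, 7, 9],
    .fuse 0 [1, 1] [7, 8, 9, 10],
    .fuse 0 [2, 2] [],
    .fuse 0 [3, 3] [],
    .fuse 0 [4, 4] [8, 9, 10],
    .fuse 0 [5, 5] [10],
    .fuse 0 [7, 7] [],
    .fuse 0 [9, 9] [],
    .fuse 0 [1, 0] [0, 1, 9, 10],
    .fuse 0 [2, 0] [0, 2, 4, 6, 9, 10],
    .fuse 0 [2, 1] [1, 2, 9],
    .fuse 0 [4, 0] [0, 4, 7, 9, 10],
    .fuse 0 [4, 3] [3, 4, 7, 8, 9],
    .fuse 0 [5, 0] [0, 5, 9],
    .fuse 0 [5, 2] [2, 5, 7, 9],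
    .fuse 0 [5, 3] [3, 5, 7, 8, 10],
    .fuse 0 [6, 3] [3, 6, 7, 8, 9, 10],
    .fuse 0 [8, 5] [5, 8],
    .fuse 0 [8, 6] [6, 8],
    .fuse 0 [9, 0] [0, 9, 10]]

/-- part of the data -/
def p2Rels5 : List (Rel) :=
  [.fuse 0 [9, 3] [3, 9],
    .fuse 0 [9, 4] [4, 9],
    .fuse 0 [9, 5] [5, 9],
    .fuse 0 [9, 8] [8, 9],
    .fuse 0 [10, 0] [0, 10],
    .fuse 1 [0, 0] [2, 5, 8, 10, 11],
    .fuse 1 [1, 1] [],
    .fuse 1 [3, 3] [],
    .fuse 1 [4, 4] [],
    .fuse 1 [5, 5] [10],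
    .fuse 1 [6, 6] [12],
    .fuse 1 [7, 7] [12],
    .fuse 1 [8, 8] [11, 12],
    .fuse 1 [12, 12] [],
    .fuse 1 [1, 0] [0, 1, 2, 6, 7, 8, 12],
    .fuse 1 [2, 0] [0, 2, 7, 9, 12],
    .fuse 1 [2, 1] [1, 2, 12],
    .fuse 1 [3, 0] [0, 3, 4],
    .fuse 1 [3, 2] [2, 3, 5, 6, 7, 8, 9, 10, 12],
    .fuse 1 [4, 0] [0, 4, 5, 6, 7, 11, 12]]

/-- part of the data -/
def p2Rels6 : List (Rel) :=
  [.fuse 1 [4, 3] [3, 4],
    .fuse 1 [5, 0] [0, 5, 7, 10],
    .fuse 1 [5, 1] [1, 5, 12],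
    .fuse 1 [5, 4] [4, 5, 10, 11, 12],
    .fuse 1 [6, 0] [0, 6, 7, 11],
    .fuse 1 [6, 4] [4, 6, 11],
    .fuse 1 [8, 5] [5, 8, 11, 12],
    .fuse 1 [8, 6] [6, 8, 11, 12],
    .fuse 1 [9, 1] [1, 9, 10],
    .fuse 1 [9, 2] [2, 9, 11, 12],
    .fuse 1 [9, 4] [4, 9, 12],
    .fuse 1 [9, 6] [6, 9, 12],
    .fuse 1 [9, 8] [8, 9],
    .fuse 1 [10, 0] [0, 10, 11],
    .fuse 1 [12, 1] [1, 12],
    .fuse 1 [12, 3] [3, 12]]

/-- part of the data -/
def p2Rows0 : List (Nat × List Int × List (Nat × Int)) :=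
  [(104, (sv 129 [(104, 1)]), [(16, 1)]),
    (103, (sv 129 [(103, 1)]), [(15, 1)]),
    (102, (sv 129 [(102, 1)]), [(8, 1)]),
    (101, (sv 129 [(101, 1)]), [(6, 1)]),
    (100, (sv 129 [(100, 1)]), [(4, 1)]),
    (99, (sv 129 [(99, 1)]), [(2, 1)]),
    (98, (sv 129 [(98, 1)]), [(9, -1)]),
    (96, (sv 129 [(96, 1)]), [(3, -1)]),
    (91, (sv 129 [(91, 1)]), [(14, 1)]),
    (90, (sv 129 [(90, 1)]), [(12, 1)])]

/-- part of the data -/
def p2Rows1 : List (Nat × List Int × List (Nat × Int)) :=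
  [(88, (sv 129 [(88, 1)]), [(11, -1)]),
    (86, (sv 129 [(86, 1)]), [(1, 1)]),
    (84, (sv 129 [(84, 1)]), [(13, -1)]),
    (81, (sv 129 [(81, 1)]), [(7, 1)]),
    (79, (sv 129 [(79, 1)]), [(10, 1)]),
    (77, (sv 129 [(77, 1)]), [(5, -1)]),
    (74, (sv 129 [(74, 1)]), [(0, 1)]),
    (97, (sv 129 [(97, 1)]), [(9, -1), (18, 1)]),
    (89, (sv 129 [(89, 1)]), [(16, 1), (20, -1)]),
    (85, (sv 129 [(85, 1)]), [(1, 1), (17, -1)])]

/-- part of the data -/
def p2Rows2 : List (Nat × List Int × List (Nat × Int)) :=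
  [(67, (sv 129 [(67, 1)]), [(12, 1), (19, -1)]),
    (75, (sv 129 [(34, 2), (75, 1)]), [(21, 1)]),
    (93, (sv 129 [(93, 1)]), [(2, 1), (11, 1), (23, 1)]),
    (78, (sv 129 [(78, 1)]), [(2, 1), (15, 1), (26, 1)]),
    (76, (sv 129 [(76, 1)]), [(12, 1), (14, 1), (27, -1)]),
    (68, (sv 129 [(68, 1)]), [(14, -1), (15, -1), (103, -1)]),
    (83, (sv 129 [(12, 1), (27, 2), (83, 1)]), [(31, 1)]),
    (73, (sv 129 [(11, 1), (54, 2), (73, 1)]), [(33, 1)]),
    (72, (sv 129 [(11, 1), (62, 2), (72, 1)]), [(35, 1)]),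
    (60, (sv 129 [(10, 1), (51, 2), (60, 1)]), [(32, 1)])]

/-- part of the data -/
def p2Rows3 : List (Nat × List Int × List (Nat × Int)) :=
  [(23, (sv 129 [(4, 1), (18, 2), (23, 1)]), [(30, -1)]),
    (21, (sv 129 [(4, 1), (18, 2), (21, 1)]), [(29, 1)]),
    (13, (sv 129 [(12, -1), (13, 1), (128, 2)]), [(113, 1)]),
    (11, (sv 129 [(10, -1), (11, 1), (114, 2)]), [(87, 1)]),
    (94, (sv 129 [(94, 1)]), [(3, 1), (6, -1), (7, 1), (135, 1)]),
    (87, (sv 129 [(87, 1)]), [(8, 1), (12, 1), (16, 1), (37, -1)]),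
    (70, (sv 129 [(61, -1), (70, 1)]), [(10, 1), (24, 1)]),
    (63, (sv 129 [(61, -1), (63, 1)]), [(24, 1), (25, -1)]),
    (12, (sv 129 [(12, 1), (59, 2)]), [(12, -1), (36, -1)]),
    (27, (sv 129 [(24, 1), (25, -1), (26, 1), (27, 1)]), [])]

/-- part of the data -/
def p2Rows4 : List (Nat × List Int × List (Nat × Int)) :=
  [(82, (sv 129 [(82, 1)]), [(2, 1), (11, 1), (16, -1), (23, 1), (28, -1)]),
    (95, (sv 129 [(95, 1)]), [(0, 1), (12, -1), (14, -1), (15, 1), (16, 1), (41, 1)]),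
    (92, (sv 129 [(92, 1)]), [(2, -2), (3, -1), (4, -1), (9, -1), (11, -1), (23, -1), (104, 1)]),
    (66, (sv 129 [(58, 1), (66, 1)]), [(16, 1), (19, 1), (20, -1), (39, -1)]),
    (10, (sv 129 [(10, 1), (51, 2)]), [(14, 1), (15, 1), (34, -1), (103, 1)]),
    (65, (sv 129 [(65, 1)]), [(2, 1), (6, 1), (8, -1), (11, 1), (14, -1), (15, -1), (23, 1), (38, -1), (103, -1)]),
    (46, (sv 129 [(46, 1)]), [(2, 1), (4, -1), (7, 1), (11, 2), (13, 1), (16, -1), (23, 1), (43, -1)]),
    (64, (sv 129 [(56, -1), (64, 1)]), [(0, -1), (2, -1), (6, -1), (9, -1), (14, 1), (15, -1), (26, -1), (45, -1), (103, 1)]),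
    (80, (sv 129 [(9, -1), (29, -2), (56, -1), (80, 1)]), [(6, 1), (16, 2), (20, -2), (42, 1)]),
    (9, (sv 129 [(9, 1), (51, 2), (59, 2), (112, 2)]), [(2, -1), (10, 1), (14, 2), (26, -1), (34, -1), (36, -1), (86, 1), (103, 1)])]

/-- part of the data -/
def p2Rows5 : List (Nat × List Int × List (Nat × Int)) :=
  [(71, (sv 129 [(51, -2), (52, 2), (56, -1), (58, -1), (71, 1), (114, -2)]), [(4, 1), (6, 1), (8, 1), (34, 1), (49, 1), (87, -1)]),
    (58, (sv 129 [(58, 1), (59, 2), (61, -2)]), [(0, -1), (10, -1), (12, -2), (13, -1), (16, 1), (20, -1), (24, 1), (25, -1), (27, 1), (36, -1), (39, -1), (101, 1)]),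
    (61, (sv 129 [(48, -1), (61, 1)]), [(0, 1), (2, 1), (6, 1), (8, -1), (10, 1), (12, 3), (14, -2), (15, -2), (23, 1), (27, -1), (38, -1), (39, 1), (50, 1), (101, -1), (103, -2)]),
    (69, (sv 129 [(51, 2), (54, -2), (59, -1), (69, 1), (114, 2)]), [(10, -2), (13, -1), (25, -1), (32, 1), (33, -1), (87, 1), (100, 1)]),
    (54, (sv 129 [(4, -1), (18, -2), (52, -1), (54, 1)]), [(2, 1), (7, 1), (11, 1), (13, -1), (20, -1), (23, 1), (28, -1), (29, -1), (33, 1), (120, -1), (135, 1)]),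
    (56, (sv 129 [(34, 2), (55, 1), (56, 1), (59, -2), (128, -2)]), [(2, 1), (9, 1), (12, 1), (15, 1), (21, 1), (26, 1), (36, 1), (40, -1), (113, -1)]),
    (51, (sv 129 [(30, -1), (43, -1), (51, 1), (59, 2), (128, 2)]), [(4, 1), (14, -1), (15, -1), (19, -1), (32, 1), (36, -1), (48, -1), (103, -1), (113, 1)]),
    (43, (sv 129 [(8, 1), (36, 2), (43, 1), (59, -4), (128, -2)]), [(7, -1), (11, 1), (12, 2), (16, -1), (36, 2), (47, 1), (113, -1)]),
    (59, (sv 129 [(34, 2), (48, -1), (59, 1)]), [(0, 1), (2, 1), (5, -1), (6, 1), (7, -1), (8, -1), (11, -1), (12, 2), (13, -1), (16, 1), (21, 1), (24, 1), (25, -1), (26, 1), (28, 1), (32, -1), (34, -1), (38, -1), (39, 1), (50, 1), (102, -1)]),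
    (126, (sv 129 [(34, -1), (47, -1), (55, -1), (62, 1), (126, 1)]), [(0, 1), (1, -1), (6, -1), (8, -1), (9, -1), (12, -1), (15, 3), (16, -3), (18, 1), (19, 1), (20, 1), (23, -1), (26, 1), (38, 1), (103, 2), (128, -1)])]

/-- part of the data -/
def p2Rows6 : List (Nat × List Int × List (Nat × Int)) :=
  [(57, (sv 129 [(34, 4), (57, 1)]), [(0, 1), (2, -2), (3, -1), (4, -1), (5, -2), (6, -1), (7, -2), (8, -1), (9, -1), (10, -2), (11, -2), (12, -2), (13, -1), (14, 1), (15, 3), (16, -1), (19, -1), (20, 1), (21, 2), (23, -3), (24, 1), (25, -1), (26, 3), (27, 2), (28, 2), (32, -2), (34, -2), (36, 1), (37, 1), (39, 1), (56, -1), (101, 1), (102, -2), (103, 3), (104, 1)]),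
    (4, (sv 129 [(4, 1), (18, 2)]), [(0, -1), (1, -1), (2, -5), (3, -1), (4, -1), (6, -2), (7, -1), (8, -2), (10, -1), (11, -1), (12, -4), (13, 1), (14, -3), (15, -1), (16, -4), (17, 1), (18, -1), (19, -1), (20, 2), (23, -2), (27, 2), (28, 1), (29, 1), (37, 2), (56, -1), (98, 1), (103, -1), (104, 1), (120, 1), (135, -1)]),
    (115, (sv 129 [(34, -2), (115, 1)]), [(0, -1), (1, -2), (2, -6), (3, -2), (6, -3), (7, 2), (8, -1), (9, 1), (10, -2), (12, -7), (14, -7), (16, -8), (17, 2), (18, -1), (19, -2), (20, 1), (21, -1), (23, -2), (26, 1), (27, 3), (28, -1), (32, 2), (33, 1), (34, 2), (36, -1), (37, 4), (38, 1), (39, -1), (45, 1), (49, 1), (56, -2), (98, 2), (99, -1), (100, 1), (102, 1), (103, -3), (104, 2)]),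
    (52, (sv 129 [(33, -1), (34, 2), (48, 1), (52, 1)]), [(1, 2), (2, 2), (4, 1), (6, 2), (7, -1), (8, 3), (9, -1), (10, -1), (11, -1), (12, 1), (13, -1), (14, 5), (15, 5), (16, 4), (17, -1), (18, 1), (19, 1), (20, -1), (21, 1), (23, -1), (24, -1), (27, -1), (37, -2), (38, 1), (39, -1), (50, -1), (54, 1), (56, 1), (98, -1), (101, 1), (103, 3), (104, -1)]),
    (128, (sv 129 [(34, 2), (48, 1), (55, -1), (128, 1)]), [(1, -1), (2, -1), (5, -2), (7, -2), (8, 1), (10, -2), (11, -1), (12, -3), (13, -1), (14, 5), (15, 6), (20, 2), (21, 1), (23, -3), (26, 2), (27, 2), (28, 2), (32, -2), (34, -2), (36, 1), (38, 1), (40, 1), (50, -1), (101, 2), (102, -2), (103, 6), (130, -1)]),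
    (55, (sv 129 [(33, -1), (34, 4), (41, 1), (48, 1), (49, -1), (55, 1)]), [(1, 3), (2, -6), (4, -2), (5, 1), (6, -4), (9, -3), (10, -3), (11, -2), (12, -4), (13, 1), (14, -2), (15, -2), (16, -2), (20, -1), (21, 2), (23, -2), (25, -1), (26, -2), (27, 1), (28, -1), (37, 1), (38, 1), (39, -1), (40, -1), (50, -1), (54, 1), (56, -1), (60, -1), (104, 1), (113, 1), (130, 2), (135, 1)]),
    (48, (sv 129 [(6, 1), (24, 2), (33, -2), (34, 5), (48, 1)]), [(0, -2), (1, 2), (2, -3), (3, -2), (5, -1), (6, 1), (7, -3), (8, 1), (9, -2), (10, -6), (11, -3), (12, -4), (13, -4), (14, 2), (15, 7), (16, 1), (21, 2), (23, -4), (24, -1), (25, -2), (26, 1), (27, 2), (28, 1), (33, 1), (38, 1), (39, -1), (46, -1), (50, -1), (54, 2), (100, 1), (101, 2), (102, -1), (103, 3)]),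
    (62, (sv 129 [(6, -1), (24, -2), (33, 1), (34, 3), (62, 1)]), [(3, 1), (5, -1), (11, -1), (12, -1), (13, 1), (14, 4), (15, 2), (16, 1), (21, 2), (23, -1), (25, 1), (26, 1), (27, 1), (28, 1), (32, -2), (34, -2), (36, 1), (41, -1), (46, 1), (55, -1), (100, -1), (101, 1), (102, -1), (103, 3)]),
    (47, (sv 129 [(6, -1), (24, -2), (33, 1), (34, 4), (47, 1)]), [(0, 2), (1, -1), (2, -1), (3, 3), (5, -4), (6, -4), (7, -1), (8, 1), (9, 1), (10, 1), (11, -1), (12, 3), (13, 2), (14, 6), (15, 1), (16, 1), (18, -1), (20, 2), (21, 2), (23, -1), (24, 2), (26, 1), (27, 1), (28, 2), (32, -4), (33, -1), (34, -4), (36, 2), (37, -1), (39, 1), (40, 1), (46, 1), (54, -1), (60, -1), (100, -1), (101, 1), (102, -3), (103, 6), (132, 1), (135, 1)]),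
    (41, (sv 129 [(6, -1), (24, -2), (33, 1), (41, 1)]), [(0, 3), (1, -2), (3, 2), (4, -2), (5, 2), (8, -1), (9, 1), (10, 2), (11, 1), (12, -3), (13, 3), (14, 1), (15, -3), (16, -4), (17, 1), (20, 1), (21, 1), (24, 1), (25, 1), (26, -1), (27, 1), (28, 1), (32, -2), (33, -1), (34, -2), (36, 1), (37, 2), (39, 1), (46, 1), (54, -1), (63, -1), (100, -1), (102, -1), (103, 2), (132, -1)])]

/-- part of the data -/
def p2Rows7 : List (Nat × List Int × List (Nat × Int)) :=
  [(53, (sv 129 [(34, 5), (40, -1), (49, -1), (53, 1)]), [(0, -2), (1, 1), (2, -1), (3, 1), (4, 1), (5, -4), (6, -4), (7, -1), (8, 1), (9, -1), (10, -1), (11, -1), (12, 7), (13, -1), (14, 6), (15, -1), (16, 4), (17, -1), (19, 1), (21, 2), (24, 1), (25, -1), (26, 1), (27, -1), (32, -2), (34, -2), (36, 1), (37, -2), (41, -1), (45, -1), (53, -1), (60, -1), (63, 1), (101, 1), (102, -2), (103, 4), (132, 1), (135, 1)]),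
    (49, (sv 129 [(6, 2), (8, -1), (18, 2), (24, 2), (34, -4), (49, 1), (123, -2)]), [(0, -2), (1, -3), (2, -1), (3, -1), (4, -2), (5, 2), (6, 2), (8, -2), (9, 2), (10, -2), (11, 2), (12, -7), (14, -4), (16, -5), (17, 2), (18, -1), (19, -1), (20, 2), (21, -2), (24, -1), (26, -1), (27, 2), (28, 1), (29, 1), (32, 2), (34, 2), (36, -1), (37, 3), (43, -1), (46, -1), (60, 1), (63, -1), (98, 1), (100, 1), (102, 1), (103, -3), (111, -1), (113, -1), (120, 1), (130, -1), (132, -1), (135, -2)]),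
    (31, (sv 129 [(6, 1), (8, 1), (24, 2), (30, -1), (31, 1), (33, -3), (34, 3), (36, 2)]), [(0, -1), (1, 6), (2, -1), (3, -3), (4, 1), (5, 1), (6, 4), (7, -4), (8, 2), (9, -4), (10, -3), (11, -3), (12, 5), (13, -4), (15, 1), (16, 6), (17, -1), (18, 1), (20, -5), (21, 1), (23, -1), (24, -1), (25, -3), (26, -3), (27, -2), (32, 3), (33, 1), (34, 2), (36, -1), (37, -2), (39, -1), (46, -1), (47, 1), (48, -1), (49, -1), (54, 3), (56, 1), (57, -1), (98, -1), (100, 1), (102, 1), (103, -3), (104, -1), (113, 1), (130, 2), (135, -1)]),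
    (127, (sv 129 [(6, -1), (25, -2), (26, 2), (33, 1), (34, -11), (39, 1), (40, 1), (127, 1)]), [(0, -2), (1, 2), (2, -2), (3, -1), (5, 6), (6, 4), (7, 4), (8, -2), (10, 2), (11, 1), (12, -6), (13, 3), (14, -9), (15, -12), (16, -1), (19, -1), (20, -4), (21, -5), (23, 3), (24, -3), (25, 4), (26, -6), (28, -3), (31, -1), (32, 4), (34, 4), (36, -2), (37, 1), (38, -1), (39, -2), (41, -1), (43, 1), (45, 1), (46, 1), (53, 1), (55, -1), (60, 1), (100, -1), (101, -2), (102, 5), (103, -11), (123, -1), (128, 1), (130, 1), (132, -1), (135, -1)]),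
    (45, (sv 129 [(6, 4), (8, -2), (18, 4), (24, 6), (25, -2), (26, 2), (34, -2), (39, 1), (45, 1), (123, -4)]), [(0, -4), (1, -2), (2, -9), (3, -1), (4, -4), (5, -2), (6, -4), (8, -4), (10, -6), (12, -9), (14, -8), (16, -7), (17, 2), (18, -2), (19, -2), (20, 4), (21, -2), (23, -3), (25, -2), (27, 4), (28, 2), (29, 2), (31, -1), (32, 2), (34, 2), (36, -1), (37, 4), (43, -1), (46, -2), (52, -1), (56, -2), (98, 2), (100, 2), (103, -4), (104, 2), (111, -2), (113, -1), (120, 2), (135, -2)]),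
    (40, (sv 129 [(6, -3), (8, 2), (18, -4), (24, -3), (25, 1), (26, -1), (32, 1), (33, -3), (34, 8), (38, 1), (39, -2), (40, 1), (123, 4)]), [(0, 5), (1, 6), (2, -2), (3, -4), (5, 4), (7, -2), (8, -1), (9, -8), (10, -2), (11, -6), (12, -1), (13, -2), (14, -11), (15, 2), (16, -2), (17, -2), (18, 2), (19, -2), (20, -4), (21, 5), (23, -2), (25, -2), (27, 1), (28, -1), (29, -1), (30, 1), (33, 1), (35, -1), (38, -1), (40, -1), (41, 2), (45, 1), (46, 1), (50, 1), (52, 2), (53, 2), (54, 3), (56, -1), (60, -1), (98, -1), (100, -1), (101, -1), (102, 1), (103, -4), (104, 1), (111, 2), (113, 2), (120, -1), (122, -1), (130, 3), (135, 2)]),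
    (44, (sv 129 [(6, 3), (8, 1), (24, 6), (30, -1), (33, -6), (34, 17), (36, 2), (44, 1)]), [(0, -2), (1, 9), (2, -8), (3, -5), (4, 1), (5, -4), (6, 5), (7, -14), (8, -1), (9, -8), (10, -19), (11, -15), (12, 2), (13, -16), (14, 2), (15, 10), (16, 7), (17, -1), (18, 1), (19, -1), (20, -1), (21, 7), (23, -12), (24, 1), (25, -11), (26, 2), (27, 3), (28, 5), (32, -1), (33, 2), (34, -1), (36, 1), (37, -2), (38, -1), (43, 1), (46, -3), (47, 1), (48, -1), (49, -1), (50, 1), (54, 6), (56, 1), (65, -1), (98, -1), (100, 3), (101, 5), (102, -5), (103, 3), (113, 1), (130, 2)]),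
    (50, (sv 129 [(6, 4), (18, 2), (24, 6), (30, -1), (33, -5), (34, 19), (36, 2), (50, 1), (123, -2)]), [(0, -2), (1, 8), (2, -4), (3, -5), (4, 1), (5, -7), (6, 6), (7, -13), (9, -7), (10, -16), (11, -12), (12, -1), (13, -12), (14, 7), (15, 17), (16, 9), (17, -1), (18, 1), (20, -2), (21, 8), (23, -10), (25, -9), (26, 4), (27, 4), (28, 6), (29, 1), (32, -2), (33, 2), (34, -2), (36, 1), (37, -1), (43, -1), (46, -3), (47, 1), (48, -1), (49, -1), (54, 5), (56, 1), (97, -1), (100, 3), (101, 5), (102, -5), (103, 6), (104, -1), (111, -1), (120, 1), (130, 1), (135, -2)]),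
    (39, (sv 129 [(6, 4), (18, 2), (22, 1), (24, 6), (25, -1), (28, 1), (30, -1), (33, -4), (34, 6), (36, 1), (39, 1), (123, -2)]), [(0, -6), (1, 4), (2, -12), (3, -7), (5, -6), (6, -2), (7, -6), (8, -1), (9, -6), (10, -11), (11, -7), (12, -6), (13, -9), (14, -6), (15, 9), (18, -1), (19, -2), (20, 1), (21, 1), (23, -8), (24, -1), (25, -5), (26, 2), (27, 4), (28, 2), (29, 1), (32, 4), (33, 2), (34, 3), (36, -1), (37, 1), (38, 1), (39, -1), (43, -1), (46, -3), (47, 1), (48, -1), (54, 4), (56, -2), (62, -1), (63, 1), (98, 1), (100, 3), (101, 2), (102, -1), (103, -2), (104, 2), (111, -1), (120, 1), (130, 1), (132, 1), (135, -1)]),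
    (30, (sv 129 [(3, -1), (6, -8), (8, 1), (18, -4), (22, 1), (24, -15), (25, 2), (26, -3), (28, 1), (30, 1), (33, 6), (36, -3), (114, 2), (121, -2), (123, 2)]), [(0, 8), (1, -1), (2, 5), (3, 3), (4, -4), (6, -8), (7, 7), (8, 2), (9, -2), (10, 18), (11, 1), (12, 4), (13, 12), (14, 3), (15, -6), (16, 4), (17, -3), (18, 2), (20, -2), (21, 3), (23, 5), (24, 2), (25, 9), (26, 3), (27, -2), (28, -1), (29, -1), (30, 1), (31, 1), (32, -6), (33, -3), (34, -6), (35, -1), (36, 3), (37, -2), (38, -2), (39, 2), (40, -1), (46, 6), (47, -1), (48, 1), (50, 1), (52, 2), (53, 1), (54, -4), (55, -2), (56, -2), (60, -1), (62, -1), (63, 1), (87, 1), (98, -1), (100, -6), (101, -2), (103, 3), (104, 2), (109, -1), (111, 1), (113, 1), (120, -1), (122, -1), (128, 1), (130, 2), (135, 2)])]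

/-- part of the data -/
def p2Rows8 : List (Nat × List Int × List (Nat × Int)) :=
  [(113, (sv 129 [(6, 3), (15, 1), (16, 1), (18, 2), (20, -1), (22, -1), (24, 5), (25, -1), (26, 1), (28, -2), (29, 1), (33, -4), (34, 10), (35, 1), (36, 3), (37, 1), (112, -1), (113, 1), (123, -2)]), [(0, -7), (1, 6), (2, 7), (3, -5), (5, -3), (6, 2), (8, 3), (9, -4), (10, -4), (11, 6), (12, 4), (13, -7), (14, 8), (15, 14), (16, 7), (17, -2), (19, 5), (20, -3), (21, 3), (23, 3), (24, -2), (25, -4), (26, 1), (27, -1), (29, 1), (32, 4), (33, 2), (34, 3), (36, -1), (37, -3), (39, -2), (42, -1), (43, -4), (45, -1), (46, -3), (47, 1), (48, -1), (54, 4), (56, 2), (63, 1), (65, 1), (86, -1), (95, -1), (98, -1), (99, 1), (100, 2), (101, 1), (103, 3), (104, -2), (111, -1), (113, -1), (130, -1), (132, 1)]),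
    (38, (sv 129 [(3, 1), (6, 3), (8, -2), (18, 4), (24, 6), (25, -4), (26, 4), (33, 2), (34, -27), (38, 1), (121, 2), (123, -2)]), [(0, -7), (1, -3), (2, -8), (3, 2), (4, 1), (5, 7), (6, -8), (7, 11), (8, -3), (9, 4), (10, 6), (11, 10), (12, -3), (13, 10), (14, -19), (15, -27), (16, -13), (17, 1), (18, -3), (19, -3), (20, 1), (21, -14), (23, 9), (24, -2), (25, 4), (26, -12), (27, -3), (28, -7), (29, 2), (31, -1), (32, 10), (33, -1), (34, 10), (36, -5), (37, 4), (38, 1), (39, -2), (43, -1), (45, -1), (46, -1), (52, -1), (54, -3), (55, 1), (56, -1), (98, 2), (100, 1), (101, -7), (102, 9), (103, -18), (104, 1), (109, 1), (111, -1), (116, 1), (120, 2), (128, -1), (132, 1), (135, -2)]),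
    (32, (sv 129 [(6, -1), (22, 2), (24, -4), (26, -2), (28, 2), (32, 1), (34, -7), (36, -2), (114, 2)]), [(0, 4), (1, 3), (2, 1), (3, -2), (4, 3), (5, -6), (6, -11), (7, 7), (8, 5), (9, -8), (10, 14), (11, -2), (12, 12), (13, 5), (14, -1), (15, 6), (16, 4), (17, -4), (18, 4), (19, 3), (20, -2), (21, -4), (23, 3), (25, 3), (27, -9), (28, -5), (32, 6), (33, -1), (34, 5), (35, -1), (36, -2), (37, -6), (38, 4), (39, -1), (43, -2), (45, 1), (46, 1), (49, -1), (52, 1), (56, -1), (60, -1), (62, -2), (63, 2), (87, 1), (98, -2), (100, -1), (101, -5), (102, 5), (103, -3), (104, 1), (113, 2), (116, -1), (123, 1), (128, -1), (130, 4), (132, 3), (133, -1), (135, 1)]),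
    (34, (sv 129 [(3, -1), (6, -5), (8, 3), (18, -6), (22, 2), (24, -11), (25, 5), (26, -7), (28, 1), (33, -3), (34, 1), (36, -2), (114, 2), (121, -2), (123, 4)]), [(0, 8), (1, 6), (2, 1), (3, -7), (6, -6), (7, 1), (8, 3), (9, -11), (10, 13), (11, -3), (12, 8), (14, -10), (15, 4), (16, 5), (17, -4), (18, 4), (19, 1), (20, -5), (21, 1), (23, 3), (25, 3), (26, 1), (27, -6), (28, -6), (29, -2), (30, 1), (31, 2), (32, 4), (34, 3), (36, -1), (37, -5), (40, -1), (41, 4), (45, 1), (46, 2), (50, 1), (52, 3), (53, 1), (54, 1), (55, 1), (56, -2), (59, 1), (60, -1), (62, -2), (63, 2), (87, 1), (98, -2), (100, -2), (101, -4), (102, 4), (103, -7), (104, 2), (109, -1), (111, 2), (113, 2), (116, -1), (120, -2), (122, -1), (128, 1), (130, 4), (132, 1), (135, 3)]),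
    (37, (sv 129 [(2, 1), (3, 6), (5, -1), (6, 27), (8, -14), (15, 1), (16, 1), (18, 30), (20, -1), (22, -10), (24, 61), (25, -29), (26, 39), (28, -7), (29, 1), (33, 10), (36, 10), (37, 1), (107, -2), (112, -4), (114, -6), (121, 12), (123, -16)]), [(0, -44), (1, -28), (2, 8), (3, 33), (4, 10), (5, -9), (6, 37), (7, -4), (8, -5), (9, 56), (10, -65), (11, 23), (12, -20), (13, -8), (14, 64), (15, -2), (16, -14), (17, 19), (18, -21), (20, 20), (21, -5), (23, -10), (25, -20), (26, -4), (27, 23), (28, 26), (29, 9), (30, -6), (31, -11), (32, -17), (33, 4), (34, -12), (35, 1), (36, 3), (37, 18), (38, 2), (39, -2), (40, 6), (41, -20), (45, -7), (46, -12), (48, 1), (49, 1), (50, -4), (52, -17), (53, -6), (54, -2), (55, -3), (56, 14), (59, -5), (60, 5), (62, 10), (63, -9), (65, 1), (82, -1), (86, -2), (87, -3), (98, 9), (100, 13), (101, 19), (102, -19), (103, 41), (104, -14), (109, 6), (111, -8), (113, -10), (116, 5), (120, 8), (122, 6), (128, -6), (130, -23),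 (132, -2), (135, -13)]),
    (35, (sv 129 [(2, 1), (5, -1), (6, -3), (8, 7), (15, 1), (16, 1), (18, -12), (20, -1), (22, 1), (24, -6), (25, 9), (26, -11), (28, -3), (29, 1), (33, -17), (35, 1), (36, -2), (107, -2), (112, -2), (114, 4), (123, 14)]), [(0, 12), (1, 8), (2, 36), (3, -9), (4, 18), (5, -1), (6, 22), (7, -5), (8, 27), (9, -6), (10, 20), (11, 10), (12, 46), (13, -18), (14, 17), (15, 38), (16, 28), (17, -3), (18, 6), (19, 16), (20, -15), (21, -3), (23, 13), (24, -3), (25, -4), (26, -5), (27, -25), (28, -15), (29, -7), (30, -1), (31, 3), (32, 13), (33, 6), (34, 11), (35, 3), (36, -5), (37, -23), (38, 5), (39, -6), (40, 2), (41, 9), (43, 3), (46, -3), (48, 1), (49, 1), (50, -1), (52, 1), (53, -1), (54, 8), (55, 7), (56, 10), (57, -1), (59, 3), (60, 1), (62, -2), (65, 1), (75, 1), (82, -1), (86, -1), (87, 2), (97, 1), (98, -8), (100, 3), (101, -5), (102, 8), (103, 2), (104, -10), (111, 7), (113, 2), (116, -3), (120, -8), (122, 1), (130, -1),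 (132, 2), (135, 7)]),
    (7, (sv 129 [(3, -18), (5, 1), (6, -91), (7, 1), (8, 54), (18, -108), (22, 38), (24, -204), (25, 90), (26, -128), (28, 19), (33, -54), (36, -38), (112, -2), (114, 40), (121, -36), (123, 72), (124, 2)]), [(0, 148), (1, 117), (2, 31), (3, -126), (4, 8), (5, -5), (6, -118), (7, 30), (8, 62), (9, -208), (10, 260), (11, -50), (12, 176), (13, 8), (14, -177), (15, 70), (16, 105), (17, -81), (18, 80), (19, 25), (20, -97), (21, 8), (23, 68), (24, -1), (25, 60), (26, 13), (27, -128), (28, -118), (29, -36), (30, 18), (31, 36), (32, 82), (33, -1), (34, 63), (35, -1), (36, -22), (37, -102), (38, 3), (39, -2), (40, -18), (41, 71), (43, -2), (45, 18), (46, 38), (49, -2), (50, 19), (52, 55), (53, 17), (54, 17), (55, 18), (56, -34), (59, 19), (60, -19), (62, -38), (63, 40), (86, -1), (87, 20), (98, -40), (100, -38), (101, -81), (102, 82), (103, -136), (104, 34), (109, -18), (111, 36), (112, 1), (113, 39), (116, -19), (120, -36), (122, -18),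 (123, 1), (128, 17), (130, 77), (132, 22), (133, -2), (135, 55)]),
    (42, (sv 129 [(2, 2), (3, -11), (5, -2), (6, -62), (8, 44), (15, 2), (16, 2), (18, -86), (22, 25), (24, -136), (25, 71), (26, -98), (28, 8), (29, 1), (33, -59), (36, -29), (42, 1), (107, -4), (112, -2), (114, 29), (121, -22), (123, 68), (124, -2)]), [(0, 113), (1, 67), (2, 43), (3, -96), (4, 22), (5, -4), (6, -48), (7, 5), (8, 62), (9, -131), (10, 177), (11, -18), (12, 144), (13, -20), (14, -123), (15, 91), (16, 62), (17, -42), (18, 49), (19, 24), (20, -67), (21, 1), (23, 51), (24, -1), (25, 27), (26, 6), (27, -99), (28, -94), (29, -33), (30, 10), (31, 28), (32, 67), (33, 9), (34, 54), (35, 6), (36, -22), (37, -80), (38, 9), (39, -5), (40, -8), (41, 64), (42, 1), (43, 5), (45, 13), (46, 18), (47, -1), (48, 3), (49, 3), (50, 11), (52, 36), (53, 10), (54, 19), (55, 26), (56, -15), (57, -1), (59, 16), (60, -11), (62, -26), (63, 22), (65, 1), (75, 1), (82, -2), (86, -1), (87, 14),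 (92, -1), (95, 1), (97, 1), (98, -29), (99, -1), (100, -16), (101, -58), (102, 60), (103, -91), (104, 15), (109, -11), (111, 34), (112, -1), (113, 25), (116, -16), (120, -33), (122, -10), (128, 11), (130, 43), (132, 15), (133, 1), (135, 44)]),
    (29, (sv 129 [(3, 25), (6, 119), (8, -76), (18, 152), (22, -52), (24, 273), (25, -135), (26, 186), (28, -25), (29, 1), (33, 91), (36, 52), (114, -52), (121, 50), (123, -102)]), [(0, -205), (1, -150), (2, -6), (3, 192), (4, 2), (5, -11), (6, 154), (7, -23), (8, -66), (9, 287), (10, -326), (11, 68), (12, -185), (13, 10), (14, 300), (15, -95), (16, -98), (17, 94), (18, -100), (19, -27), (20, 120), (21, -8), (23, -82), (24, 4), (25, -69), (26, -5), (27, 156), (28, 166), (29, 51), (30, -25), (31, -53), (32, -126), (33, -2), (34, -100), (35, -4), (36, 37), (37, 122), (38, -4), (39, 4), (40, 23), (41, -114), (43, 1), (45, -28), (46, -42), (49, -1), (50, -23), (52, -78), (53, -26), (54, -28), (55, -35), (56, 52),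 (59, -28), (60, 25), (62, 52), (63, -50), (71, 1), (87, -26), (98, 49), (100, 41), (101, 111), (102, -115), (103, 210), (104, -52), (109, 25), (111, -51), (113, -50), (116, 28), (120, 51), (122, 25), (123, 1), (128, -26), (130, -103), (132, -25), (133, -1), (135, -76)]),
    (20, (sv 129 [(2, 1), (3, -15), (5, -1), (6, -87), (8, 50), (15, 1), (16, 1), (18, -100), (20, 1), (22, 29), (24, -179), (25, 76), (26, -107), (28, 13), (33, -39), (36, -33), (107, -2), (112, 2), (114, 29), (121, -30), (123, 72), (124, -2)]), [(0, 129), (1, 83), (2, 54), (3, -93), (4, 16), (5, -2), (6, -72), (7, 28), (8, 69), (9, -149), (10, 230), (11, -28), (12, 156), (13, 16), (14, -123), (15, 64), (16, 95), (17, -62), (18, 62), (19, 18), (20, -88), (21, 10), (23, 62), (24, -2), (25, 60), (26, 19), (27, -107), (28, -101), (29, -36), (30, 14), (31, 31), (32, 56), (33, 2), (34, 41), (36, -15), (37, -90), (38, 4), (39, -2), (40, -14), (41, 58), (42, 1), (43, 5), (45, 16), (46,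 37), (47, -1), (48, 2), (49, 1), (50, 13), (52, 43), (53, 13), (54, 11), (55, 14), (56, -24), (57, -1), (59, 15), (60, -14), (62, -30), (63, 29), (65, 1), (71, 1), (72, -1), (75, 1), (82, -1), (86, 1), (87, 14), (92, -1), (95, 1), (98, -34), (99, -1), (100, -37), (101, -63), (102, 66), (103, -97), (104, 23), (109, -15), (111, 36), (112, -1), (113, 31), (116, -15), (120, -35), (122, -14), (123, 1), (128, 14), (130, 55), (132, 16), (135, 48)])]

/-- part of the data -/
def p2Rows9 : List (Nat × List Int × List (Nat × Int)) :=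
  [(112, (sv 129 [(2, -2), (3, -20), (5, 2), (6, -83), (8, 54), (15, -2), (16, -2), (18, -106), (22, 43), (24, -203), (25, 102), (26, -144), (28, 24), (33, -69), (36, -35), (107, 4), (112, 1), (114, 40), (121, -40), (123, 62), (124, 2)]), [(0, 154), (1, 135), (2, -55), (3, -162), (4, -23), (5, 16), (6, -175), (7, 16), (8, 12), (9, -251), (10, 232), (11, -86), (12, 123), (13, -10), (14, -291), (15, 25), (16, 47), (17, -80), (18, 79), (19, 14), (20, -80), (21, 6), (23, 49), (24, 4), (25, 41), (26, -1), (27, -112), (28, -123), (29, -31), (30, 22), (31, 40), (32, 106), (33, -6), (34, 87), (35, 1), (36, -30), (37, -78), (38, -4), (39, 4), (40, -22), (41, 89), (42, -2), (43, -8), (45, 22), (46, 29), (47, 2), (48, -4), (49, -3), (50, 27), (52, 65), (53, 23), (54, 20), (55, 26), (56, -53), (57, 3), (59, 21), (60, -23), (62, -41), (63, 44), (65, -3), (71, -1), (72, 2), (75, -2), (82, 2), (87, 20), (92, 1), (94, -1), (95, -1), (97, -1), (98, -33), (99, 1),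 (100, -29), (101, -94), (102, 89), (103, -196), (104, 56), (109, -20), (111, 31), (112, 1), (113, 42), (116, -21), (120, -31), (122, -22), (123, -1), (128, 21), (130, 96), (132, 21), (135, 56)]),
    (125, (sv 129 [(2, -4), (3, -1), (5, 4), (6, 33), (8, -12), (15, -4), (16, -4), (18, 29), (22, 7), (24, 29), (25, 4), (26, -8), (28, 9), (33, -16), (36, 9), (107, 8), (114, 2), (121, -2), (123, -39), (124, 4), (125, 1)]), [(0, -14), (1, 37), (2, -165), (3, -49), (4, -54), (5, 15), (6, -118), (7, -23), (8, -103), (9, -71), (10, -74), (11, -72), (12, -92), (13, -28), (14, -166), (15, -83), (16, -95), (17, -2), (18, -4), (19, -14), (20, 45), (21, -7), (23, -43), (24, 13), (25, -43), (26, -24), (27, 33), (28, 12), (29, 20), (30, 5), (32, 34), (33, -11), (34, 36), (35, -1), (36, -11), (37, 48), (38, -11), (39, 13), (40, -4), (41, 14), (42, -4), (43, -19), (45, 4), (46, -20), (47, 4), (48, -7), (49, -6), (50, 17), (52, 12), (53, 7), (54, 4), (55, 7), (56,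 -31), (57, 7), (59, 2), (60, -7), (62, -3), (63, 9), (65, -6), (71, -2), (72, 4), (75, -4), (82, 4), (86, -1), (87, 1), (92, 2), (94, -2), (95, -2), (97, -2), (98, 16), (99, 2), (100, 20), (101, -17), (102, 2), (103, -87), (104, 37), (109, -1), (111, -20), (112, 2), (113, 3), (115, -1), (116, -1), (120, 20), (122, -5), (123, -2), (128, 3), (130, 33), (132, 2), (135, -9)]),
    (28, (sv 129 [(2, -4), (3, 6), (5, 4), (6, 80), (8, -33), (15, -4), (16, -4), (18, 70), (22, -8), (24, 120), (25, -18), (26, 30), (28, 1), (33, -21), (36, 24), (107, 8), (114, -12), (121, 12), (123, -66), (124, 4)]), [(0, -68), (1, -15), (2, -204), (3, -22), (4, -68), (5, 33), (6, -52), (7, -58), (8, -143), (10, -210), (11, -48), (12, -207), (13, -63), (14, -148), (15, -96), (16, -183), (17, 46), (18, -39), (19, -27), (20, 98), (21, -16), (23, -76), (24, 8), (25, -87), (26, -49), (27, 95), (28, 53), (29, 33), (30, -2), (31, -10), (32, 24), (33, -6), (34, 33), (35, 7), (36,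 -13), (37, 102), (38, -11), (39, 10), (40, 6), (41, 6), (42, -5), (43, -18), (45, -1), (46, -49), (47, 4), (48, -8), (49, -3), (50, 3), (52, -7), (53, 2), (54, 6), (55, 14), (56, -18), (57, 6), (59, -3), (60, 2), (62, 12), (63, -11), (64, 1), (65, -6), (71, -4), (72, 4), (75, -4), (82, 4), (86, -1), (87, -6), (92, 2), (94, -2), (95, -2), (97, -2), (98, 35), (99, 2), (100, 51), (101, 15), (102, -25), (103, -60), (104, 23), (109, 6), (111, -33), (112, 2), (113, -15), (116, 3), (120, 33), (122, 2), (123, -5), (128, -1), (130, 1), (132, -12), (133, 3), (135, -31)]),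
    (120, (sv 129 [(2, -24), (3, 44), (5, 24), (6, 511), (8, -224), (15, -24), (16, -26), (18, 473), (22, -64), (24, 800), (25, -162), (26, 249), (33, -78), (36, 160), (107, 48), (114, -88), (120, 1), (121, 88), (123, -432), (124, 24)]), [(0, -478), (1, -132), (2, -1201), (3, -54), (4, -399), (5, 178), (6, -281), (7, -333), (8, -860), (9, 96), (10, -1331), (11, -269), (12, -1254), (13, -347), (14, -750), (15, -610), (16, -1088), (17, 291), (18, -260), (19, -168), (20, 612), (21, -95), (23, -474), (24, 52), (25, -527), (26, -280), (27, 605), (28, 373), (29, 217), (30, -20), (31, -80), (32, 92), (33, -40), (34, 153), (35, 35), (36, -60), (37, 636), (38, -66), (39, 62), (40, 39), (41, -16), (42, -29), (43, -109), (45, -18), (46, -297), (47, 24), (48, -48), (49, -21), (50, 14), (52, -69), (53, 2), (54, 21), (55, 62), (56, -91), (57, 36), (59, -29), (60, 18), (62, 88), (63, -77), (64, 5), (65, -35), (71, -22), (72, 24), (75, -24), (82, 24), (86, -6),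 (87, -44), (92, 12), (94, -12), (95, -12), (97, -12), (98, 222), (99, 12), (100, 307), (101, 123), (102, -187), (103, -274), (104, 121), (109, 44), (111, -216), (112, 12), (113, -103), (116, 29), (117, -1), (120, 216), (122, 20), (123, -27), (128, -17), (130, -24), (132, -74), (133, 15), (135, -211)]),
    (111, (sv 129 [(2, 195), (3, -346), (5, -195), (6, -4152), (8, 1777), (15, 196), (16, 196), (18, -3758), (22, 498), (24, -6435), (25, 1198), (26, -1892), (33, 782), (36, -1289), (107, -392), (109, 1), (111, 1), (114, 694), (121, -692), (123, 3460), (124, -196)]), [(0, 3765), (1, 1016), (2, 9955), (3, 623), (4, 3307), (5, -1554), (6, 2274), (7, 2834), (8, 7096), (9, -604), (10, 10906), (11, 2249), (12, 10382), (13, 2998), (14, 6517), (15, 4942), (16, 9043), (17, -2404), (18, 2100), (19, 1366), (20, -5010), (21, 789), (23, 3886), (24, -413), (25, 4371), (26, 2377), (27, -4940), (28, -2955), (29, -1729), (30, 150), (31, 612), (32, -874), (33, 313),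 (34, -1367), (35, -315), (36, 536), (37, -5207), (38, 551), (39, -504), (40, -333), (41, -4), (42, 241), (43, 880), (45, 111), (46, 2458), (47, -198), (48, 395), (49, 158), (50, -118), (52, 512), (53, -41), (54, -225), (55, -575), (56, 771), (57, -294), (59, 212), (60, -143), (62, -697), (63, 631), (64, -44), (65, 294), (71, 189), (72, -197), (75, 196), (82, -196), (86, 49), (87, 346), (89, -1), (92, -99), (94, 98), (95, 99), (97, 96), (98, -1803), (99, -98), (100, -2548), (101, -961), (102, 1473), (103, 2456), (104, -1020), (109, -346), (111, 1730), (112, -98), (113, 826), (116, -212), (120, -1729), (122, -150), (123, 235), (128, 111), (130, 147), (132, 625), (133, -137), (135, 1677)]),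
    (1, (sv 129 [(1, 1), (2, 223), (3, -394), (5, -224), (6, -4740), (8, 2024), (15, 224), (16, 224), (18, -4272), (22, 567), (24, -7334), (25, 1338), (26, -2126), (33, 932), (36, -1464), (107, -448), (114, 790), (119, -2), (121, -788), (123, 3934), (124, -224)]), [(0, 4280), (1, 1181), (2, 11403), (3, 752), (4, 3790), (5, -1800), (6, 2583), (7, 3269), (8, 8136), (9, -672), (10, 12463), (11, 2538), (12, 11950), (13, 3462), (14, 7524), (15, 5617), (16, 10416), (17, -2773), (18, 2407), (19, 1568), (20, -5747), (21, 907), (23, 4434), (24, -465), (25, 5006), (26, 2738), (27, -5661), (28, -3356), (29, -1966), (30, 170), (31, 688), (32, -1026), (33, 350), (34, -1590), (35, -374), (36, 629), (37, -5972), (38, 626), (39, -573), (40, -386), (41, -48), (42, 278), (43, 1004), (45, 124), (46, 2822), (47, -224), (48, 448), (49, 174), (50, -121), (52, 576), (53, -50), (54, -259), (55, -686), (56, 885), (57, -336), (59, 236), (60, -166), (62, -792), (63, 726),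 (64, -54), (65, 336), (71, 220), (72, -224), (75, 224), (82, -224), (86, 56), (87, 395), (92, -112), (94, 112), (95, 112), (97, 112), (98, -2067), (99, -112), (100, -2930), (101, -1095), (102, 1672), (103, 2839), (104, -1167), (107, -1), (109, -394), (111, 1967), (112, -112), (113, 950), (116, -236), (120, -1966), (122, -170), (123, 274), (128, 120), (130, 177), (132, 722), (133, -162), (135, 1908)]),
    (122, (sv 129 [(2, -344), (3, 600), (5, 344), (6, 7295), (8, -3089), (15, -344), (16, -344), (18, 6523), (19, 1), (22, -859), (24, 11242), (25, -1972), (26, 3174), (33, -1546), (36, 2235), (107, 688), (114, -1202), (121, 1199), (122, 1), (123, -6012), (124, 343)]), [(0, -6532), (1, -1797), (2, -17629), (3, -1299), (4, -5856), (5, 2817), (6, -3953), (7, -5095), (8, -12553), (9, 933), (10, -19194), (11, -3899), (12, -18497), (13, -5434), (14, -11836), (15, -8547), (16, -16140), (17, 4294), (18, -3696), (19, -2415), (20, 8857), (21, -1416), (23, -6818),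 (24, 691), (25, -7740), (26, -4262), (27, 8708), (28, 5091), (29, 3006), (30, -255), (31, -1028), (32, 1690), (33, -513), (34, 2549), (35, 600), (36, -1016), (37, 9200), (38, -953), (39, 864), (40, 598), (41, 169), (42, -430), (43, -1546), (45, -173), (46, -4378), (47, 344), (48, -689), (49, -256), (50, 172), (52, -855), (53, 87), (54, 436), (55, 1110), (56, -1382), (57, 516), (59, -345), (60, 256), (62, 1203), (63, -1114), (64, 86), (65, -515), (71, -344), (72, 344), (75, -344), (82, 344), (86, -86), (87, -601), (92, 172), (94, -172), (95, -172), (97, -172), (98, 3181), (99, 172), (100, 4550), (101, 1654), (102, -2518), (103, -4512), (104, 1811), (109, 599), (111, -3006), (112, 171), (113, -1462), (115, 1), (116, 344), (118, -1), (120, 3006), (122, 256), (123, -430), (128, -168), (130, -259), (132, -1118), (133, 259), (135, -2918)]),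
    (118, (sv 129 [(2, -124), (3, 219), (5, 124), (6, 2640), (8, -1125), (15, -124), (16, -124), (18, 2376), (22, -316), (24, 4081), (25, -738), (26, 1177), (33, -528), (36, 813), (107, 248), (114, -440), (118, 1), (121, 437), (123, -2187), (124, 124)]), [(0, -2375), (1, -660), (2, -6342), (3, -423), (4, -2112), (5, 1000), (6, -1424), (7, -1834), (8, -4522), (9, 381), (10, -6938), (11, -1411), (12, -6645), (13, -1938), (14, -4181), (15, -3108), (16, -5788), (17, 1549), (18, -1344), (19, -868), (20, 3195), (21, -506), (23, -2473), (24, 262), (25, -2795), (26, -1524), (27, 3151), (28, 1873), (29, 1093), (30, -95), (31, -382), (32, 566), (33, -191), (34, 880), (35, 210), (36, -349), (37, 3319), (38, -348), (39, 321), (40, 217), (41, 31), (42, -154), (43, -559), (45, -68), (46, -1573), (47, 124), (48, -246), (49, -96), (50, 69), (52, -320), (53, 28), (54, 149), (55, 386), (56, -490), (57, 186), (59, -129), (60, 93), (62, 441), (63, -407), (64, 30), (65,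 -187), (71, -122), (72, 124), (75, -124), (82, 124), (86, -31), (87, -220), (92, 62), (94, -62), (95, -62), (97, -62), (98, 1150), (99, 62), (100, 1633), (101, 612), (102, -935), (103, -1574), (104, 647), (109, 219), (111, -1094), (112, 62), (113, -530), (114, -1), (115, -1), (116, 131), (118, 1), (120, 1093), (122, 95), (123, -153), (128, -67), (130, -100), (132, -404), (133, 91), (135, -1062)]),
    (19, (sv 129 [(2, -291), (3, 510), (5, 291), (6, 6207), (8, -2617), (15, -292), (16, -291), (18, 5527), (19, 1), (22, -724), (24, 9551), (25, -1648), (26, 2665), (33, -1358), (36, 1894), (107, 584), (114, -1016), (116, -2), (121, 1018), (123, -5093), (124, 291)]), [(0, -5545), (1, -1501), (2, -15003), (3, -1154), (4, -4962), (5, 2400), (6, -3339), (7, -4349), (8, -10665), (9, 747), (10, -16332), (11, -3319), (12, -15734), (13, -4669), (14, -10140), (15, -7214), (16, -13730), (17, 3651), (18, -3132), (19, -2050), (20, 7517), (21, -1214), (23, -5794),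 (24, 573), (25, -6597), (26, -3639), (27, 7385), (28, 4293), (29, 2547), (30, -216), (31, -862), (32, 1488), (33, -421), (34, 2214), (35, 516), (36, -886), (37, 7811), (38, -802), (39, 722), (40, 511), (41, 172), (42, -366), (43, -1312), (45, -140), (46, -3738), (47, 293), (48, -586), (49, -215), (50, 141), (52, -720), (53, 76), (54, 393), (55, 960), (56, -1178), (57, 438), (59, -288), (60, 217), (62, 1016), (63, -943), (64, 74), (65, -437), (71, -294), (72, 292), (75, -292), (82, 292), (86, -73), (87, -508), (92, 146), (94, -146), (95, -146), (97, -146), (98, 2700), (99, 146), (100, 3886), (101, 1394), (102, -2114), (103, -3891), (104, 1541), (105, -1), (109, 508), (111, -2546), (112, 145), (113, -1238), (114, 1), (115, 1), (116, 287), (118, -1), (120, 2547), (122, 217), (123, -366), (128, -140), (130, -214), (132, -947), (133, 222), (135, -2472)]),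
    (14, (sv 129 [(0, 1), (2, -3059), (3, 5360), (5, 3060), (6, 64975), (8, -27617), (14, 1), (15, -3061), (16, -3060), (18, 58280), (22, -7716), (24, 100294), (25, -17849), (26, 28624), (33, -13387), (36, 19947), (107, 6124), (110, -2), (114, -10773), (119, 2), (121, 10720), (123, -53688), (124, 3058)]), [(0, -58369), (1, -16189), (2, -156634), (3, -11023), (4, -52101), (5, 24942), (6, -35041), (7, -45216), (8, -111616), (9, 8780), (10, -170982), (11, -34627), (12, -164621), (13, -48021), (14, -104366), (15, -76298), (16, -143391), (17, 38229), (18, -32980), (19, -21516), (20, 78860), (21, -12531), (23, -60777), (24, 6214), (25, -68790), (26, -37798), (27, 77674), (28, 45681), (29, 26838), (30, -2302), (31, -9265), (32, 14594), (33, -4642), (34, 22272), (35, 5263), (36, -8859), (37, 81942), (38, -8517), (39, 7746), (40, 5332), (41, 1179), (42, -3818), (43, -13761), (45, -1602), (46, -38874), (47, 3056), (48, -6120), (49, -2308), (50, 1531), (52,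 -7740), (53, 746), (54, 3769), (55, 9698), (56, -12212), (57, 4586), (59, -3136), (60, 2297), (62, 10776), (63, -9983), (64, 760), (65, -4586), (71, -3047), (72, 3056), (75, -3058), (82, 3062), (85, -1), (86, -763), (87, -5384), (92, 1531), (94, -1526), (95, -1531), (97, -1527), (98, 28337), (99, 1532), (100, 40385), (101, 14919), (102, -22664), (103, -39558), (104, 16033), (107, 1), (109, 5360), (111, -26844), (112, 1529), (113, -13052), (116, 3136), (120, 26839), (122, 2302), (123, -3808), (128, -1552), (130, -2419), (132, -9977), (133, 2279), (135, -26078)])]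

/-- part of the data -/
def p2Rows10 : List (Nat × List Int × List (Nat × Int)) :=
  [(124, (sv 129 [(2, -282), (3, -418), (5, 282), (6, -3196), (8, -1152), (15, -1), (16, -282), (18, 2023), (22, -1142), (24, -2308), (25, -4683), (26, 5545), (33, 9033), (36, 583), (107, 2), (114, -862), (116, 562), (121, -274), (123, -2299), (124, 1)]), [(0, 1196), (1, -7779), (2, 5694), (3, 9894), (4, -4684), (5, 236), (6, -3466), (7, 4000), (8, -333), (9, 10197), (10, 7108), (11, 3460), (12, 251), (13, 12058), (14, 15188), (15, -9368), (16, 524), (17, 602), (18, -2151), (19, -1014), (20, 2458), (21, 2746), (23, 1005), (24, 2968), (25, 5576), (26, 3572), (27, 4215), (28, 6601), (29, 1007), (30, -5), (31, -2127), (32, -11358), (33, -3374), (34, -10646), (35, -992), (36, 4968), (37, 1901), (38, -1704), (39, 2831), (40, -696), (41, -4546), (42, 140), (43, -427), (45, -1415), (46, 4349), (47, -280), (48, 280), (49, -140), (50, 698), (52, -724), (53, -142), (54, -5336),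 (55, -2980), (56, 422), (57, 1), (59, -856), (60, 288), (62, 1142), (63, -1287), (64, -140), (65, -1), (71, 281), (78, -1), (82, 1), (87, -431), (98, 730), (100, -4631), (101, 2337), (102, -5305), (103, 12107), (104, -282), (105, 281), (109, 4), (110, -140), (111, -1290), (112, 1), (113, -1427), (114, -281), (115, -1), (116, 856), (118, 1), (120, 1009), (122, -137), (123, -142), (128, -144), (130, -1721), (132, -1424), (133, -140), (135, -1297)]),
    (123, (sv 129 [(2, -10), (3, -17), (5, 10), (6, -135), (8, 5), (16, -10), (18, -15), (22, 1), (24, -186), (25, -60), (26, 49), (33, 190), (36, -16), (114, 11), (116, 20), (121, -14), (123, 1)]), [(0, 178), (1, 68), (2, 218), (3, 180), (4, -85), (5, 175), (6, -295), (7, 323), (8, 11), (9, 163), (10, 655), (11, 269), (12, 313), (13, 468), (14, -47), (15, -595), (16, -77), (17, -282), (18, 6), (19, 27), (20, -10), (21, -179), (22, -243), (23, 330), (24, 62), (25, 253), (26, -116), (27, -179), (28, -121),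 (29, -1), (30, 8), (31, -34), (32, -25), (33, -123), (34, -17), (35, -1), (36, 9), (37, -50), (38, -11), (39, 49), (40, -30), (41, -10), (42, 2), (43, -16), (45, -22), (46, 125), (47, -9), (48, 6), (49, -9), (50, 37), (52, 23), (54, -205), (55, -1), (56, 5), (57, 3), (59, 4), (60, -3), (62, 1), (63, 1), (64, -5), (65, -3), (71, 6), (72, 3), (75, -3), (78, 2), (86, -1), (87, 5), (92, 1), (94, -2), (95, -1), (97, -2), (98, -18), (99, 1), (100, -129), (101, -172), (102, 110), (103, -121), (104, 6), (105, 10), (109, -3), (110, -6), (111, -4), (112, -1), (113, -6), (114, -10), (115, 2), (116, -4), (118, -2), (120, -5), (122, -11), (123, -6), (124, 1), (128, 1), (130, 30), (132, -9), (133, -4), (135, 12)]),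
    (121, (sv 129 [(2, -10), (3, -9), (5, 10), (6, -94), (8, -3), (16, -10), (18, 2), (22, 9), (24, -144), (25, -45), (26, 26), (33, 142), (36, -23), (114, 19), (116, 20), (121, 2)]), [(0, 169), (1, 166), (2, 238), (3, 165), (4, -25), (5, 203), (6, -336), (7, 384), (8, 36), (9, 153), (10, 756), (11, 364), (12, 407), (13, 481), (14, -140), (15, -640), (16, -133), (17, -380), (18, 19), (19, 75), (20, -5), (21, -312), (22, -352), (23, 428), (24, 38), (25, 254), (26, -224), (27, -295), (28, -227), (31, -29), (32, 117), (33, -121), (34, 120), (35, 13), (36, -58), (37, -84), (38, 41), (39, 20), (40, -18), (41, 22), (42, 1), (43, -26), (44, 5), (45, -20), (46, 90), (47, -8), (48, 7), (49, -13), (50, 21), (52, 17), (53, -16), (54, -210), (55, 43), (56, 25), (57, 2), (59, 15), (60, -3), (62, -7), (63, 4), (64, -4), (65, -2), (71, 4), (72, 3), (74, 1), (75, -3), (78, 2), (86, -1), (87, 9), (92, 1), (94, -2), (95, -1), (97, -2), (98, -26), (99, 1), (100, -92),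 (101, -247), (102, 207), (103, -248), (104, -16), (105, 10), (109, 5), (110, -6), (111, -5), (112, -1), (113, -2), (114, -10), (115, 2), (116, -15), (118, -2), (120, -4), (122, -2), (128, -13), (130, 35), (132, 10), (133, -9), (135, 10)]),
    (119, (sv 129 [(0, 2), (2, 88), (3, 90), (5, -87), (6, 999), (8, 35), (15, -6), (16, 86), (18, -20), (22, -41), (24, 1414), (25, 561), (26, -426), (33, -1585), (36, 201), (107, 14), (110, -4), (114, -131), (116, -180), (119, 4)]), [(0, -1581), (1, -1218), (2, -2663), (3, -1814), (4, 171), (5, -1572), (6, 2748), (7, -3487), (8, -591), (9, -1729), (10, -6945), (11, -3185), (12, -3998), (13, -4580), (14, 214), (15, 5483), (16, 634), (17, 3372), (18, -184), (19, -634), (20, 172), (21, 2569), (22, 3028), (23, -3725), (24, -436), (25, -2468), (26, 1583), (27, 2555), (28, 1697), (29, 11), (30, 12), (31, 326), (32, -520), (33, 1107), (34, -564), (35, -44), (36, 282), (37, 854), (38, -304), (39, -263), (40, 172), (41,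 39), (42, -27), (43, 201), (44, -35), (45, 204), (46, -995), (47, 85), (48, -76), (49, 126), (50, -231), (52, -100), (53, 140), (54, 1965), (55, -202), (56, -284), (57, -15), (59, -91), (60, -8), (62, 34), (63, -7), (64, 42), (65, 15), (71, -59), (72, -18), (74, 1), (75, 15), (78, -12), (79, -1), (82, 7), (85, -2), (86, 7), (87, -60), (92, -3), (94, 14), (95, 3), (97, 12), (98, 264), (99, -1), (100, 1033), (101, 2021), (102, -1590), (103, 1540), (104, 203), (105, -90), (107, 2), (109, -39), (110, 51), (111, 42), (112, 6), (113, 39), (114, 90), (115, -12), (116, 91), (118, 12), (120, 37), (122, 21), (123, -11), (124, -6), (128, 128), (130, -212), (132, -66), (133, 101), (135, -50)]),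
    (117, (sv 129 [(2, -110), (3, -111), (5, 111), (6, -1282), (8, -27), (16, -110), (22, 81), (24, -1831), (25, -706), (26, 513), (33, 2013), (36, -247), (114, 193), (116, 220), (117, 2)]), [(0, 1990), (1, 1833), (2, 3168), (3, 2212), (4, -238), (5, 2118), (6, -3785), (7, 4590), (8, 614), (9, 1920), (10, 8855), (11, 3936), (12, 5223), (13, 5835), (14, -842), (15, -7459), (16, -817), (17, -4455), (18, 302), (19, 749), (20, -288), (21, -3309), (22, -3879), (23, 4853), (24, 549), (25, 3129), (26, -2131), (27, -3386), (28, -2355), (29, -6), (30, 11), (31, -389), (32, 861), (33, -1445), (34, 915), (35, 48), (36, -434), (37, -1106), (38, 322), (39, 326), (40, -261), (41, -14), (42, 24), (43, -249), (44, 37), (45, -251), (46, 1260), (47, -100), (48, 65), (49, -182), (50, 344), (52, 165), (53, -155), (54, -2510), (55, 254), (56, 292), (57, 34), (59, 109), (60, -33), (62, -59), (63, 91), (64, -57), (65, -34), (71, 70), (72, 33), (74, -1), (75, -33), (78,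 22), (86, -11), (87, 91), (92, 11), (94, -22), (95, -11), (97, -22), (98, -358), (99, 11), (100, -1308), (101, -2712), (102, 2165), (103, -2416), (104, -168), (105, 110), (106, 1), (109, 44), (110, -66), (111, -49), (112, -11), (113, 13), (114, -110), (115, 22), (116, -109), (118, -22), (120, -50), (122, -45), (123, 15), (124, 12), (128, -147), (130, 401), (132, 134), (133, -126), (135, 128)]),
    (116, (sv 129 [(2, -1), (3, -1), (5, 1), (6, -476), (8, 51), (16, -1), (22, 52), (24, -481), (25, -522), (26, 469), (33, 947), (36, 49), (114, 53), (116, 2)]), [(0, -9), (1, -437), (2, 653), (3, 824), (4, 151), (5, -654), (6, -835), (7, 609), (8, 345), (9, 187), (10, 794), (11, -354), (12, 1353), (13, 876), (14, 1791), (15, -355), (16, 1244), (17, 26), (18, 91), (19, -20), (20, -192), (21, 792), (22, 566), (23, 5), (24, 356), (25, 498), (26, 926), (27, -35), (28, 395), (29, 32), (30, 42), (31, -122), (32, -1090), (33, -228), (34, -1059), (35, -220), (36,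 544), (37, -292), (38, -201), (39, 257), (40, -154), (41, -625), (42, 12), (43, 41), (44, -10), (45, -150), (46, 522), (47, 7), (48, -26), (49, -36), (50, 232), (52, -55), (53, -25), (54, -360), (55, -476), (56, -72), (57, 53), (59, -125), (60, -121), (62, 29), (63, 183), (64, -33), (65, 13), (68, 33), (71, 38), (72, 21), (74, 1), (75, -21), (78, 14), (86, -7), (87, 23), (92, 7), (94, -14), (95, -7), (97, -14), (98, -66), (99, 7), (100, -546), (101, 191), (102, -549), (103, 1340), (104, 113), (105, 1), (109, -7), (110, -8), (111, 2), (112, -7), (113, 99), (114, -1), (115, 14), (116, 126), (118, -14), (119, -1), (120, 5), (122, -27), (123, 69), (124, 6), (128, -49), (130, 45), (132, 173), (133, -68), (135, 176)]),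
    (114, (sv 129 [(2, 2), (5, -1), (6, -37), (8, 5), (15, 2), (16, 2), (17, -2), (18, 6), (22, -1), (24, -26), (25, -53), (26, 52), (33, 81), (36, 9), (107, -4), (114, 1)]), [(0, 16), (1, 8), (2, 84), (3, 79), (4, 3), (6, -31), (7, 88), (8, 48), (9, 47), (10, 126), (11, 56), (12, 87), (13, 118), (14, 77), (15, -130), (16, 52), (17, -60), (18, 2), (19, 5), (20, -36), (21, -11), (22, -36), (23, 52), (24, 19), (25, 66), (26, 7), (27, -22), (28, 9), (29, 1), (30, -2), (31, -19), (32, -44), (33, -26), (34, -42), (35, -14), (36, 23), (37, -19), (38, -17), (39, 14), (40, -5), (41, -38), (42, 2), (43, 4), (44, -4), (45, -9), (46, 42), (47, 3), (49, -1), (50, 18), (52, -9), (53, 7), (54, -41), (55, -29), (56, 6), (57, 2), (59, -8), (60, -1), (62, 2), (63, -3), (64, -3), (65, 1), (66, -3), (68, 2), (71, 3), (72, 1), (74, 1), (77, -1), (78, -1), (82, -2), (87, 1), (92, 1), (95, -1), (98, -5), (99, 1), (100, -44), (101, -18), (103, 15), (104, -1), (109, 1),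 (110, 1), (111, 1), (112, 1), (113, 5), (115, -2), (116, 10), (118, 2), (120, -2), (122, -3), (123, 1), (124, 2), (128, -4), (130, -1), (132, 1), (133, -4), (135, 7)]),
    (110, (sv 129 [(2, 1), (6, -207), (8, 4), (15, 2), (16, 2), (17, -2), (18, 8), (22, -1), (24, -201), (25, -217), (26, 217), (33, 420), (36, 6), (105, 2), (107, -4), (110, 2)]), [(0, -38), (1, -727), (2, 459), (3, 510), (4, 126), (5, -651), (6, -3), (7, -148), (8, 263), (9, 261), (10, -47), (11, -365), (12, 358), (13, 162), (14, 1879), (15, 831), (16, 777), (17, 536), (18, -13), (19, 27), (20, 62), (21, 781), (22, 667), (23, -414), (24, 202), (25, 102), (26, 800), (27, 297), (28, 597), (29, 8), (30, 3), (31, -50), (32, -970), (33, -30), (34, -948), (35, -114), (36, 446), (37, -103), (38, -38), (39, 165), (40, -22), (41, -383), (42, 7), (43, 24), (44, 11), (45, -81), (46, 239), (47, -11), (48, 16), (49, -4), (50, 25), (52, -73), (53, -57), (54, -69), (55, -268), (56, 34), (57, 13),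 (59, -65), (60, -37), (62, 36), (63, 16), (64, -3), (65, 21), (66, 9), (68, 18), (71, 19), (72, -4), (75, 4), (77, -1), (78, 5), (80, 1), (82, -2), (85, 1), (86, -2), (87, -7), (89, -1), (92, -9), (94, -5), (95, 9), (97, -7), (98, -6), (99, -9), (100, -251), (101, 459), (102, -656), (103, 1574), (104, -52), (109, -2), (110, -2), (111, -3), (112, -2), (113, -6), (115, 4), (116, 67), (118, -4), (120, 17), (122, 9), (123, 47), (124, -6), (128, -41), (130, -128), (132, 40), (133, -39), (135, 29)]),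
    (109, (sv 129 [(2, -6), (5, 4), (6, -5), (8, -12), (15, -4), (16, -4), (17, 4), (18, -12), (22, 4), (24, -35), (25, 37), (26, -35), (33, -12), (36, -20), (107, 10), (109, 2)]), [(0, -75), (1, -367), (2, -8), (3, 39), (4, 71), (5, -335), (6, 71), (7, -311), (8, 8), (9, -9), (10, -375), (11, -361), (12, -31), (13, -242), (14, 744), (15, 776), (16, 268), (17, 433), (18, -10), (19, 4), (20, 119), (21, 430), (22, 442), (23, -354), (24, 45), (25, -132), (26, 386), (27, 200), (28, 264), (29, 3), (30, 8), (31, 29), (32, -367), (33, 61), (34, -362), (35, -23), (36, 161), (37, -10), (38, 33), (39, 38), (40, 1), (41, -100), (42, -2), (43, -1), (44, 17), (45, -12), (46, 8), (47, -13), (48, 7), (49, -2), (50, -34), (52, -13), (53, -52), (54, 88), (55, -63), (57, 2), (59, -11), (60, -20), (62, 13), (63, 21), (64, 6), (65, 8), (66, 14), (68, 4), (71, 3), (72, -5), (74, -3), (75, 2), (77, 2), (78, 6), (82, 5), (84, 1), (86, -2), (87, -5), (92, -8), (94, -3),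 (95, 7), (97, -4), (98, 9), (99, -8), (100, -10), (101, 281), (102, -326), (103, 751), (104, -23), (109, -4), (110, -4), (111, -5), (112, -4), (113, -10), (115, 8), (116, 7), (118, -8), (120, 17), (122, 14), (123, 24), (124, -10), (128, -12), (130, -52), (132, 24), (133, -10), (135, -6)]),
    (108, (sv 129 [(2, -4), (5, 2), (6, 158), (8, -10), (15, -4), (16, -4), (17, 4), (18, -12), (22, 2), (24, 132), (25, 194), (26, -192), (33, -334), (36, -18), (107, 8), (108, 2)]), [(0, 32), (1, 470), (2, -360), (3, -402), (4, -104), (5, 460), (6, 8), (7, 62), (8, -236), (9, -204), (10, -16), (11, 244), (12, -322), (13, -166), (14, -1358), (15, -498), (16, -596), (17, -334), (18, 14), (19, -36), (20, 2), (21, -534), (22, -440), (23, 276), (24, -146), (25, -94), (26, -548), (27, -190), (28, -422), (29, -6), (30, 2), (31, 52), (32, 696), (33, 28), (34, 680), (35, 92), (36, -322), (37, 98), (38, 34), (39, -116), (40, 16), (41, 302), (42, -8), (43, -22), (44, -4),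 (45, 58), (46, -188), (47, 2), (48, -12), (49, 4), (50, -36), (52, 62), (53, 34), (54, 50), (55, 212), (56, -34), (57, -10), (59, 50), (60, 28), (62, -28), (63, -4), (64, 6), (65, -16), (66, -4), (68, -14), (71, -18), (72, 2), (74, -2), (75, -4), (77, 2), (78, -2), (82, 4), (83, 1), (86, 2), (87, 5), (92, 6), (94, 4), (95, -6), (97, 4), (98, 8), (99, 6), (100, 199), (101, -310), (102, 454), (103, -1092), (104, 42), (111, 2), (113, -6), (116, -54), (120, -12), (122, -6), (123, -34), (124, 4), (128, 34), (130, 80), (132, -30), (133, 30), (135, -22)])]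

/-- part of the data -/
def p2Rows11 : List (Nat × List Int × List (Nat × Int)) :=
  [(107, (sv 129 [(2, -1), (6, 40), (8, -2), (15, -2), (16, -2), (17, 2), (18, -4), (22, 1), (24, 36), (25, 46), (26, -46), (33, -82), (36, -4), (107, 2)]), [(0, 18), (1, 191), (2, -92), (3, -116), (4, -44), (5, 178), (6, -17), (7, 91), (8, -65), (9, -58), (10, 76), (11, 135), (12, -68), (13, 8), (14, -515), (15, -285), (16, -199), (17, -181), (18, 14), (19, -25), (20, -17), (21, -224), (22, -198), (23, 152), (24, -50), (25, 10), (26, -209), (27, -95), (28, -171), (29, -3), (30, 1), (31, 11), (32, 261), (33, -6), (34, 254), (35, 29), (36, -119), (37, 24), (38, 2), (39, -38), (40, 1), (41, 99), (42, -2), (43, -6), (44, -4), (45, 15), (46, -51), (47, 2), (48, -7), (49, -1), (50, -8), (52, 22), (53, 17), (54, -11), (55, 67), (56, -15), (57, -4), (59, 14), (60, 11), (62, -11), (63, 3), (64, 1), (65, -6), (66, -3), (68, -4), (71, -6), (72, 1), (74, -1), (75, -2), (77,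 1), (78, -1), (82, 1), (86, 1), (87, 2), (88, -1), (92, 3), (94, 2), (95, -3), (97, 2), (98, -4), (99, 4), (100, 54), (101, -138), (102, 187), (103, -436), (104, 21), (111, 2), (113, -2), (116, -16), (120, -8), (122, -5), (123, -13), (124, 4), (128, 13), (130, 28), (132, -8), (133, 9), (135, -2)]),
    (106, (sv 129 [(5, 2), (6, 13), (8, -4), (15, 4), (16, 4), (17, -4), (18, 4), (22, -2), (24, 1), (25, 27), (26, -25), (33, -34), (36, -6), (106, 2)]), [(0, -3), (1, -25), (2, 33), (3, -4), (4, 44), (5, -30), (6, 49), (7, -86), (8, 20), (9, 11), (10, -66), (11, -51), (12, -15), (13, -60), (14, 184), (15, 204), (16, 43), (17, 82), (18, -10), (19, 52), (20, -9), (21, 52), (22, 52), (23, -67), (24, -2), (25, -40), (26, 35), (27, 16), (28, 39), (29, 2), (30, -4), (31, 7), (32, -48), (33, 24), (34, -46), (35, -3), (36, 19), (37, -8), (38, 29), (39, -10), (40, 8), (41, -12), (43, -6), (44, 5), (45, 12), (46, -6), (47, -3), (48, 9), (49, 3), (50, -6), (52,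 -9), (53, -13), (54, 44), (55, -1), (56, 23), (59, 6), (60, -1), (62, 2), (63, -14), (64, 1), (65, 3), (66, 2), (68, -2), (71, 3), (72, -2), (74, 1), (75, 3), (77, -2), (81, 1), (87, 1), (88, 3), (92, -2), (95, 1), (97, -1), (98, 6), (99, -5), (100, 5), (101, 47), (102, -41), (103, 127), (104, -31), (109, 1), (110, 1), (111, -3), (112, 1), (113, 6), (115, -2), (116, -2), (118, 2), (120, 8), (122, 7), (123, 7), (124, -6), (128, -10), (130, 1), (132, -4), (133, -2), (135, -17)]),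
    (33, (sv 129 [(5, 1), (6, -2), (15, 2), (16, 2), (17, -2), (18, 2), (24, -5), (25, 1), (26, -1), (33, 1)]), [(0, -304), (1, -1487), (2, 1079), (3, -226), (4, 137), (5, -528), (6, 1488), (7, -1301), (8, 120), (9, 431), (10, -1162), (11, -528), (12, -661), (13, -1246), (14, 3312), (15, 3404), (16, 1370), (17, 1518), (18, -38), (19, 69), (20, -133), (21, 1716), (22, 1582), (23, -1319), (24, 30), (25, -291), (26, 1929), (27, 699), (28, 1155), (29, 16), (30, 10), (31, 87), (32, -1360), (33, 300), (34, -1327), (35, -53), (36, 611), (37, 211), (38, 109), (39, 228), (40, -166), (41, -371), (42, 12), (43, 40), (44, 30), (45, -111), (46, 58), (47, -22), (48, 30), (49, -7), (50, -107), (52, -115), (53, -254), (54, 311), (55, -176), (56, 181), (57, 18), (59, -97), (60, 182), (61, -130), (62, 64), (63, -84), (64, 126), (65, 36), (66, 25), (67, 1), (68, 24), (71, 34), (72, -8), (75, 8), (78, 12), (86, -5), (87, -13), (88, 2), (92, -18), (94, -10), (95, 18),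 (97, -10), (98, -2), (99, -20), (100, -80), (101, 1138), (102, -1168), (103, 2893), (104, -223), (109, -6), (110, -6), (111, -11), (112, -6), (113, -125), (115, 12), (116, 97), (118, -12), (120, 42), (122, 29), (123, 87), (124, -22), (128, -69), (130, -440), (132, -174), (133, -59), (135, -228)]),
    (26, (sv 129 [(5, -2), (6, 3), (15, -4), (16, -4), (17, 4), (18, -4), (24, 9), (25, -3), (26, 3)]), [(0, -12), (1, -79), (2, -22), (3, 6), (4, -32), (5, -49), (6, 19), (7, -8), (8, 7), (9, -5), (10, -38), (11, 25), (12, -56), (13, -13), (14, -23), (15, 32), (16, -31), (17, 35), (18, 3), (19, -40), (20, 49), (21, 19), (22, 29), (23, -4), (24, -1), (25, -2), (26, 12), (27, 43), (28, 21), (29, -4), (30, 1), (31, 1), (32, -5), (33, -5), (34, -10), (35, 6), (36, 3), (37, 11), (38, -8), (39, 4), (40, 6), (41, 13), (42, -1), (45, -14), (46, -12), (47, 1), (48, -3), (50, -22), (52, 5), (53, 3), (54, -13), (55, 6), (56, -12), (57, -5), (59, -2), (60, 1), (61,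 3), (62, -1), (63, 1), (64, 1), (65, 1), (66, -1), (68, 3), (71, -5), (72, -1), (74, -1), (77, 2), (86, 1), (87, -1), (88, -3), (93, -1), (94, 2), (97, 1), (98, -2), (99, 3), (100, 15), (101, 22), (102, -23), (103, 34), (104, 10), (109, -1), (110, -1), (111, 2), (112, -1), (113, -19), (115, 2), (116, -2), (118, -2), (120, -8), (122, -2), (123, -4), (124, 4), (128, 7), (130, -30), (132, 1), (133, 1), (135, 11)]),
    (16, (sv 129 [(16, 1)]), [(0, 116), (1, 491), (2, -408), (3, 52), (4, -53), (5, 178), (6, -492), (7, 399), (8, -95), (9, -127), (10, 362), (11, 120), (12, 173), (13, 399), (14, -1096), (15, -1111), (16, -488), (17, -491), (18, -4), (19, -35), (20, 56), (21, -552), (22, -512), (23, 382), (24, 1), (25, 87), (26, -596), (27, -207), (28, -358), (29, -4), (30, -3), (31, -28), (32, 419), (33, -88), (34, 413), (35, 17), (36, -193), (37, -41), (38, -33), (39, -56), (40, 53), (41, 117), (42, -3), (43, -10), (44, -11), (45, 50), (46, -14), (47,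 6), (48, -12), (49, 5), (50, 49), (52, 36), (53, 82), (54, -100), (55, 55), (56, -72), (57, -1), (59, 30), (60, -56), (61, 38), (62, -19), (63, 28), (64, -40), (65, -12), (66, -5), (68, -9), (71, -8), (72, 2), (73, -1), (74, -1), (75, -3), (78, -4), (79, -1), (87, 2), (88, -1), (92, 3), (93, 2), (95, -3), (97, 2), (98, 13), (99, 4), (100, 19), (101, -369), (102, 367), (103, -939), (104, 86), (109, 2), (110, 2), (111, 3), (112, 2), (113, 45), (115, -4), (116, -30), (118, 4), (120, -5), (122, -9), (123, -29), (124, 6), (128, 23), (130, 151), (132, 52), (133, 21), (135, 61)])]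

/-- the rules at 2 -/
def p2Data : SchurData where
  p := 2
  a := List.replicate 14 (0, 0)
  derived := []
  levels := []
  pow := [[2, 4, 5, 7, 8, 10], [], [6, 8, 9, 10], [], [], [11], [12], [13], [13], [], [], [], [], []]
  comm := [[], [[0, 1, 2, 4, 6, 8, 9, 10]], [[0, 2, 5, 6, 7, 9, 11], [1, 2]], [[0, 3, 4, 6, 7, 9], [1, 3, 4], [2, 3, 5, 7, 9, 10, 11]], [[0, 4, 5, 7, 8, 10], [1, 4], [2, 4, 6, 8, 9, 10], [3, 4]], [[0, 5, 6, 11], [1, 5, 6, 9, 11, 12, 13], [2, 5, 9, 13], [3, 5, 12], [4, 5, 11, 12, 13]], [[0, 6, 9], [1, 6, 10, 13], [2, 6, 10, 11], [3, 6, 12], [4, 6, 11, 12], [5, 6]], [[0, 7, 8, 10, 11], [1, 7, 8, 12], [2, 7, 9, 11, 12, 13], [3, 7, 12], [4, 7, 12, 13], [5, 7, 11, 12], [6, 7, 11]], [[0, 8, 9, 11, 12, 13], [1, 8, 13], [2, 8, 10, 12], [3, 8, 12, 13], [4, 8], [5, 8, 11], [6, 8, 12], [7, 8, 13]], [[0, 9, 10, 11, 12, 13], [1, 9, 10], [2, 9, 11], [3, 9, 11, 12, 13], [4, 9, 11], [5, 9, 13], [6, 9, 13], [7, 9], [8, 9]], [[0, 10, 12], [1,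 10], [2, 10, 12], [3, 10, 11], [4, 10, 12], [5, 10, 13], [6, 10], [7, 10], [8, 10], [9, 10]], [[0, 11, 12], [1, 11, 12], [2, 11, 13], [3, 11], [4, 11], [5, 11], [6, 11], [7, 11], [8, 11], [9, 11], [10, 11]], [[0, 12, 13], [1, 12], [2, 12], [3, 12], [4, 12], [5, 12], [6, 12], [7, 12], [8, 12], [9, 12], [10, 12], [11, 12]], [[0, 13], [1, 13], [2, 13], [3, 13], [4, 13], [5, 13], [6, 13], [7, 13], [8, 13], [9, 13], [10, 13], [11, 13], [12, 13]]]
  ords := [8, 2, 4, 2, 2, 4, 4, 4, 4, 2, 2, 2, 2, 2]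
  fus := [⟨(0, 0), [[2, 4, 5, 6, 9, 11, 12, 13], [2, 4, 5], [0, 1, 2, 6, 8, 9, 10], [0, 1, 4], [2, 4, 7, 8, 12], [0, 1, 2, 7, 8, 9, 12], [2, 4, 7, 8], [10, 11, 12], [9], [10], [13]], [[0, 1, 2, 5, 7, 8, 9, 11, 12], [2, 4, 5, 10, 13], [0, 1, 4, 5, 8, 9, 10, 11, 13], [0, 1, 4, 10, 11], [5, 7, 10, 12], [5, 6, 8, 9, 13], [5, 7, 9, 12, 13], [9, 11], [11, 12, 13], [11], [13]]⟩, ⟨(0, 0), [[1, 2, 3], [3], [5], [1], [4], [4, 7, 8, 9, 10, 11, 12], [4, 7, 12, 13], [6], [8], [10], [11], [12, 13], [12]], [[1, 5, 8, 9, 10, 11, 12, 13], [5, 6, 8, 9, 10, 12], [3, 5, 6, 8, 9, 11, 13], [2, 4, 9], [9, 12, 13], [3, 6, 7, 9, 10, 12, 13], [3, 4, 6, 7, 8, 9, 12, 13], [4, 8, 11, 12], [5, 6, 7, 8, 9], [6, 8, 9, 11, 13], [11, 13], [12], [13]]⟩]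
  nv := 129
  rels := ([p2Rels0, p2Rels1, p2Rels2, p2Rels3, p2Rels4, p2Rels5, p2Rels6] : List (List (Rel))).flatten
  rows := ([p2Rows0, p2Rows1, p2Rows2, p2Rows3, p2Rows4, p2Rows5, p2Rows6, p2Rows7, p2Rows8, p2Rows9, p2Rows10, p2Rows11] : List (List (Nat × List Int × List (Nat × Int)))).flatten
  gs := [([12], (sv 129 [(5, -2), (6, 3), (15, -4), (17, 4), (18, -4), (24, 8), (25, -2), (26, 2)])), ([12, 13], (sv 129 [(8, 1), (24, 1), (25, -1), (26, 1), (36, 2)])), ([10], (sv 129 [(5, -1), (6, 2), (8, 1), (15, -2), (17, 2), (18, -2), (22, 1), (24, 6), (25, -3), (26, 2), (36, 1)])), ([10, 11, 12], (sv 129 [(6, 1), (8, 1), (22, 1), (24, 2), (25, -1), (36, 1)])), ([8], (sv 129 [(24, 1), (25, -1), (26, 1), (36, 1)])), ([5, 6, 7, 9, 12, 13], (sv 129 [(5, -1), (6, 1), (8, 1), (15, -1), (17, 2), (18, -2), (24, 4), (25, -2), (26, 2), (36, 2)])), ([5, 7, 8, 11], (sv 129 [(5, 1), (6, -1), (8, 1), (15, 3), (17, -2), (18, 2), (24, -1), (25, -2), (26, 1), (36, 3)])),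 ([4], (sv 129 [(18, 1)])), ([4, 5, 7, 9, 11, 13], (sv 129 [(5, 1), (6, -1), (8, 1), (15, 3), (17, -2), (18, 3), (24, -2), (25, -1), (26, 1), (36, 2)])), ([2], (sv 129 [(0, 1), (2, 1), (5, -3), (6, 2), (15, -7), (17, 4), (18, -5), (22, -2), (24, 10), (26, 2), (36, -2), (105, 2), (119, 2)])), ([2, 4, 5], (sv 129 [(0, 1), (2, 1), (5, -2), (15, -4), (17, 1), (18, -1), (22, -2), (24, 4), (25, 2), (36, -2), (105, 2), (119, 2)]))]
  elts := []
  commWit := [[], [[1, 3, 5, 6, 7, 9]], [[0, 1, 6], []], [[2, 3, 4, 5, 6, 9, 10], [7], [0, 2, 7, 8]], [[1, 2, 5], [], [1, 3, 5, 6], []], [[0, 1, 3, 4, 5, 6], [1, 4, 5, 6], [1, 4, 6, 7, 8], [0], [0, 1, 2, 3]], [[0, 1, 2, 4, 6, 7, 8], [0, 1, 2], [0, 1, 3], [0], [2, 3], []], [[0, 1, 6, 7, 8], [0, 4], [1, 2, 3, 4, 6, 7, 8], [0], [1], [2, 3], [0, 2, 3]], [[1, 3, 4, 6, 7, 8], [0, 1], [2], [1], [], [0, 2, 3], [0], [0, 1]], [[3], [2], [1, 2, 3], [0, 1, 2, 3], [0, 2, 3], [0, 1], [0, 1], [], []], [[1], [], [0], [0, 2, 3], [0],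 [0, 1], [], [], [], []], [[1], [0], [0, 1], [], [], [], [], [], [], [], []], [[0, 1], [], [], [], [], [], [], [], [], [], [], []], [[], [], [], [], [], [], [], [], [], [], [], [], []]]
  conjWit := [[[1], [0], [1, 2], [0, 1, 3], [0, 3, 6, 7, 8], [2, 6], [0, 5], [0, 1, 3, 5, 7], [1, 2, 4, 7], [2, 3, 6, 9], [1, 4, 10]], [[0], [1], [2], [0, 3], [0, 1, 4], [6], [5], [7], [0, 1, 3, 5, 6, 8], [9], [0, 1, 2, 4, 5, 6, 10]], [[0], [1], [0, 2], [1, 3], [2, 4], [1, 3, 5], [0, 1, 3, 6], [1, 3, 5, 6, 7], [3, 5, 6, 8], [9], [0, 2, 4, 5, 7, 8, 10]], [[0], [1], [0, 3], [0, 2], [1, 4], [1, 2, 3, 5], [1, 6], [7], [0, 1, 2, 3, 8], [0, 2, 7, 8, 9], [2, 7, 8, 10]], [[0], [1], [0, 2], [0, 3], [4], [2, 3, 5], [0, 2, 3, 6], [7], [8], [1, 3, 5, 6, 9], [1, 2, 5, 6, 10]], [[0], [1], [0, 1, 2], [0, 1, 3], [0, 2, 3, 4], [0, 1, 2, 3, 5], [0, 6], [0, 1, 2, 3, 7], [8], [1, 4, 6, 7, 8, 9], [1, 2, 3, 4, 6, 7, 8, 10]], [[0], [1], [2], [3], [0, 4], [1, 2, 3, 5], [2, 3, 6], [2, 3, 7],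 [1, 8], [0, 1, 3, 9], [2, 10]], [[0], [1], [2], [3], [0, 1, 4], [0, 5], [0, 1, 2, 3, 6], [1, 7], [1, 2, 3, 8], [1, 2, 3, 4, 6, 7, 8, 9], [0, 1, 4, 6, 7, 8, 10]], [[0], [1], [2], [3], [4], [0, 1, 2, 3, 5], [1, 2, 3, 6], [7], [1, 2, 3, 8], [2, 9], [1, 3, 10]], [[0], [1], [2], [3], [4], [5], [0, 1, 6], [0, 2, 3, 7], [1, 2, 3, 8], [1, 2, 3, 9], [0, 1, 10]], [[0], [1], [2], [3], [4], [0, 1, 5], [0, 1, 6], [0, 7], [1, 8], [0, 9], [0, 1, 10]], [[0], [1], [2], [3], [4], [5], [6], [7], [8], [0, 1, 9], [0, 1, 10]], [[0], [1], [2], [3], [4], [5], [6], [7], [8], [9], [10]], [[0], [1], [2], [3], [4], [5], [6], [7], [8], [9], [10]]]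
  ext := []

/-- power witnesses at 2 -/
def p2ChainP : List (List Nat) :=
  [[], [], [], [], [0, 1], [1, 2, 3], [0, 1, 2, 3], [], [0], [1, 3, 5, 6], [0, 1, 4, 6, 7, 8]]

/-- conjugation witnesses at 2 -/
def p2ChainC : List (List (List Nat)) :=
  [[], [[0]], [[0], [1]], [[0], [1], [2]], [[0], [1], [2], [3]], [[0], [1], [0, 1, 2], [0, 1, 3], [0, 1, 2, 3, 4]], [[0], [1], [0, 1, 2], [0, 1, 3], [1, 2, 3, 4], [0, 5]], [[0], [1], [0, 2], [0, 3], [4], [2, 3, 5], [0, 2, 3, 6]], [[0], [1], [1, 2], [1, 3], [1, 2, 3, 4], [1, 5], [6], [7]], [[0], [1], [0, 2], [1, 3], [2, 4], [1, 3, 5], [0, 1, 3, 6], [1, 3, 5, 6, 7], [3, 5, 6, 8]], [[0], [1], [0, 1, 2], [3], [1, 3, 4], [0, 3, 5], [2, 6], [1, 2, 5, 6, 7], [3, 5, 6, 8], [1, 2, 4, 5, 7, 8, 9]]]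

/-- powers in the reversed sequence at 2 -/
def p2PW : List (List ℕ) :=
  [[], [], [], [], [], [0], [0], [1], [2], [], [], [0, 1, 3, 4, 5, 7], [], [1, 2, 3, 4, 6, 7, 8, 9, 11]]

/-- conjugates in the reversed sequence at 2 -/
def p2CW : List (List (List ℕ)) :=
  [[], [[0]], [[0], [1]], [[0], [1], [2]], [[0], [1], [2], [3]], [[0], [1], [2], [3], [4]], [[0], [1], [2], [3], [4], [0, 5]], [[0], [1], [2], [3], [0, 4], [1, 5], [2, 6]], [[0], [1], [2], [0, 3], [0, 4], [2, 5], [1, 2, 6], [7]], [[0], [1], [2], [1, 3], [2, 4], [5], [0, 1, 6], [1, 2, 7], [0, 1, 2, 8]], [[0], [1], [2], [2, 3], [0, 1, 2, 4], [0, 1, 5], [1, 6], [1, 7], [1, 8], [9]], [[0], [1], [0, 2], [1, 3], [0, 2, 4], [3, 5], [0, 1, 4, 6], [0, 1, 2, 3, 7], [0, 2, 4, 8], [0, 1, 3, 4, 5, 7, 9], [0, 1, 3, 4, 6, 8, 10]], [[0], [1], [1, 2], [3], [3, 4], [0, 5], [0, 1, 5, 6], [0, 3, 7], [0, 1, 2, 4, 7, 8], [9], [9, 10], [11]], [[0], [0, 1], [0, 1, 2], [0, 1, 3], [1, 2, 3, 4], [0, 1, 3, 4, 5], [0,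 1, 2, 4, 5, 6], [0, 1, 2, 3, 4, 7], [0, 1, 3, 4, 7, 8], [1, 2, 3, 4, 6, 7, 8, 9], [0, 3, 5, 8, 9, 10], [0, 5, 6, 8, 11], [0, 1, 3, 4, 5, 7, 9, 11, 12]]]

/-- the remaining vector of tails -/
def p2V0 : List Int :=
  sv 129 [(24, 1), (25, -1), (26, 1), (27, 1)]

/-- multiples of the remaining vector in the rows -/
def p2Cs : List Int :=
  [0, 0, 0, 0, 0, 0, 0, 0, 0, 0, 0, 0, 0, 0, 0, 0, 0, 0, 0, 0, 0, 0, 0, 0, 0, 0, 0, 0, 0, 0, 0, 0, 0, 0, 0, 0, 0, 0, 0, 1, 0, 0, 0, 0, 0, 0, 0, 0, 0, 0, 0, 0, 0, 0, 0, 0, 0, 0, 0, 0, 0, 0, 0, 0, 0, 0, 0, 0, 0, 0, 0, 0, 0, 2, 2, -1, 0, 0, 0, -3, 0, 4, -2, -7, 38, -12, -128, -99, 187, -107, -142, -5, 32, 262, -1994, -2242, 3346, 1241, 2809, 30162, 5827, 57, 33, -494, 604, 522, 54, 242, -28, -212, -54, -22, 43, -2, -12]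

/-- part of the data -/
def p2Eqs0 : List (List Int) :=
  [(sv 129 [(74, 1)]),
    (sv 129 [(86, 1)]),
    (sv 129 [(99, 1)]),
    (sv 129 [(96, -1)]),
    (sv 129 [(100, 1)]),
    (sv 129 [(77, -1)]),
    (sv 129 [(101, 1)]),
    (sv 129 [(81, 1)]),
    (sv 129 [(102, 1)]),
    (sv 129 [(98, -1)]),
    (sv 129 [(79, 1)]),
    (sv 129 [(88, -1)]),
    (sv 129 [(90, 1)]),
    (sv 129 [(84, -1)]),
    (sv 129 [(91, 1)]),
    (sv 129 [(103, 1)]),
    (sv 129 [(104, 1)]),
    (sv 129 [(85, -1), (86, 1)]),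
    (sv 129 [(97, 1), (98, -1)]),
    (sv 129 [(67, -1), (90, 1)])]

/-- part of the data -/
def p2Eqs1 : List (List Int) :=
  [(sv 129 [(89, -1), (104, 1)]),
    (sv 129 [(34, 2), (75, 1)]),
    (sv 129 [(34, -2), (85, 1)]),
    (sv 129 [(88, 1), (93, 1), (99, -1)]),
    (sv 129 [(61, -1), (70, 1), (79, -1)]),
    (sv 129 [(63, -1), (70, 1), (79, -1)]),
    (sv 129 [(78, 1), (99, -1), (103, -1)]),
    (sv 129 [(76, -1), (90, 1), (91, 1)]),
    (sv 129 [(82, -1), (93, 1), (104, -1)]),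
    (sv 129 [(4, 1), (18, 2), (21, 1)]),
    (sv 129 [(4, -1), (18, -2), (23, -1)]),
    (sv 129 [(12, 1), (27, 2), (83, 1)]),
    (sv 129 [(10, 1), (51, 2), (60, 1)]),
    (sv 129 [(11, 1), (54, 2), (73, 1)]),
    (sv 129 [(10, -1), (51, -2), (68, -1)]),
    (sv 129 [(11, 1), (62, 2), (72, 1)]),
    (sv 129 [(12, -1), (59, -2), (90, -1)]),
    (sv 129 [(87, -1), (90, 1), (102, 1), (104, 1)]),
    (sv 129 [(65, -1), (68, 1), (93, 1), (101, 1), (102, -1)]),
    (sv 129 [(58, -1), (66, -1), (67, -1), (89, 1), (90, 1)])]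

/-- part of the data -/
def p2Eqs2 : List (List Int) :=
  [(sv 129 [(13, -1), (55, -1), (56, -1), (75, 1), (78, 1), (98, -1)]),
    (sv 129 [(74, -1), (90, 1), (91, 1), (95, 1), (103, -1), (104, -1)]),
    (sv 129 [(9, -1), (29, -2), (56, -1), (80, 1), (89, -2), (101, -1)]),
    (sv 129 [(46, -1), (81, 1), (84, -1), (88, -1), (93, 1), (100, -1), (104, -1)]),
    (sv 129 [(11, 1), (12, 1), (40, 2), (74, 1), (76, 1), (85, 1), (91, 1)]),
    (sv 129 [(56, 1), (64, -1), (68, -1), (74, -1), (78, -1), (98, 1), (101, -1), (103, -1)]),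
    (sv 129 [(6, -1), (11, -1), (24, -2), (34, -1), (69, 1), (74, -1), (75, -1), (91, -1)]),
    (sv 129 [(8, 1), (12, 1), (13, 1), (36, 2), (43, 1), (81, 1), (88, 1), (104, 1)]),
    (sv 129 [(10, 1), (13, 1), (30, 1), (43, 1), (51, 1), (60, 1), (67, 1), (68, 1), (100, 1)]),
    (sv 129 [(11, 1), (52, 2), (56, -1), (58, -1), (68, 1), (71, 1), (100, -1), (101, -1), (102, -1)]),
    (sv 129 [(12, -1), (48, -1), (58, 1), (63, -1), (65, -1), (68, -1), (84, -1), (88, -1), (89, -1), (90, -2)]),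
    (sv 129 [(8, -1), (12, -1), (13, -1), (36, -2), (49, -1), (87, -1), (88, -1), (93, 1), (100, -1), (104, -2)]),
    (sv 129 [(12, -1), (13, -1), (39, -1), (45, -1), (46, -1), (81, 1), (83, -1), (84, -1), (88, -2), (96, -1), (100, -1), (104, -2)]),
    (sv 129 [(40, 1), (53, -1), (57, -1), (64, 1), (68, 1), (76, 1), (82, 1), (89, 1), (90, 1), (95, -1), (99, -1), (101, -1), (103, -2), (104, 1)]),
    (sv 129 [(11, -1), (33, -1), (54, -1), (70, 1), (73, -1), (75, -1), (81, 1), (84, -1), (86, -1), (93, 1), (96, -1), (98, -1), (101, -1), (103, -2)]),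
    (sv 129 [(11, -1), (12, -1), (33, -1), (62, -1), (63, -1), (73, -1), (79, -1), (81, 1), (84, -1), (90, -2), (91, -1), (95, -1), (96, -1), (104, 1)]),
    (sv 129 [(57, -1), (58, -1), (67, 1), (68, 1), (76, -1), (78, 1), (79, -1), (87, -1), (88, -1), (90, -1), (91, -1), (92, 1), (99, -1), (101, -1), (103, -1), (104, -1)]),
    (sv 129 [(11, -1), (13, -1), (31, -1), (51, 1), (52, -1), (56, -1), (68, -1), (71, -1), (79, 1), (82, -1), (89, 1), (90, 1), (93, 1), (94, -1), (98, -1), (101, 1), (102, 1), (104, -1)]),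
    (sv 129 [(11, -1), (12, -1), (33, -1), (41, 1), (53, -1), (54, -1), (57, -1), (73, -1), (75, -1), (76, -1), (80, 1), (86, -1), (87, 1), (89, -1), (91, -3), (96, -1), (98, -1), (101, 1), (103, -1)]),
    (sv 129 [(11, -2), (12, -2), (13, -1), (28, -1), (32, -1), (33, -1), (53, -1), (54, -1), (72, -1), (75, -1), (81, 1), (83, -1), (86, -2), (91, -2), (95, -1), (98, -1), (101, -1), (103, -3), (104, -1)])]

/-- part of the data -/
def p2Eqs3 : List (List Int) :=
  [(sv 129 [(11, -1), (41, -1), (49, 1), (54, -1), (56, -1), (57, 1), (58, -1), (66, 1), (68, 1), (73, -1), (77, -1), (78, -2), (79, -1), (82, 1), (84, -1), (89, -1), (91, -2), (94, 1), (96, -1), (100, -1), (103, -1)]),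
    (sv 129 [(11, -1), (12, -1), (40, -1), (46, -1), (47, -1), (63, -1), (64, -1), (73, -1), (74, -1), (76, -1), (77, -2), (79, -1), (80, 1), (87, -1), (88, -3), (90, -3), (91, -2), (92, 1), (97, -1), (100, -1), (102, -1), (103, -2), (104, -1)]),
    (sv 129 [(11, -1), (13, -1), (22, -1), (25, 1), (28, -1), (36, 1), (39, -1), (41, -1), (51, 1), (54, -1), (56, -1), (57, 1), (60, 1), (63, -1), (65, -1), (67, -1), (68, -1), (70, 1), (73, -1), (75, -1), (77, 1), (78, -1), (79, 1), (86, -1), (89, -1), (90, -1), (91, -1)]),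
    (sv 129 [(11, -1), (13, -1), (47, -1), (49, -1), (54, -1), (55, -1), (57, -1), (58, -1), (67, 1), (68, 1), (73, -1), (76, -1), (77, -1), (78, -1), (79, -1), (84, -1), (85, -1), (87, -1), (88, -1), (90, -1), (96, -1), (97, -1), (100, -1), (101, -1), (102, 1), (103, -1), (104, -2)]),
    (sv 129 [(11, -1), (12, -1), (13, -1), (46, -1), (48, -1), (49, -1), (53, -1), (54, -1), (56, -1), (57, -1), (58, 1), (72, -1), (75, -1), (76, -1), (78, -1), (80, 1), (83, -1), (84, -1), (86, -1), (89, -2), (91, -2), (92, 1), (95, -1), (96, -1), (98, -1), (101, -3), (103, -3), (104, -1)]),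
    (sv 129 [(10, -1), (11, -1), (12, -2), (13, -1), (44, -1), (46, -1), (48, -1), (51, -1), (52, -1), (54, -1), (56, -1), (61, -1), (67, 1), (70, -1), (71, -1), (75, -1), (77, -1), (78, -1), (79, -2), (81, -1), (88, -1), (89, -3), (90, -2), (91, -2), (92, 1), (93, -1), (96, -1), (98, -1), (101, -1), (102, -1), (103, -2), (104, -2)]),
    (sv 129 [(5, -1), (7, -1), (8, -1), (10, -1), (11, -2), (12, -2), (13, -3), (20, -2), (28, -1), (39, -1), (40, -1), (46, -1), (47, -1), (49, -1), (63, -1), (64, -1), (66, -1), (67, -1), (74, -1), (76, -2), (77, -1), (79, -2), (85, -1), (87, -1), (88, -1), (90, -1), (91, -2), (99, -2), (100, -2), (102, -1), (103, -1), (104, -2)]),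
    (sv 129 [(4, -1), (6, -1), (7, -1), (9, -1), (11, -2), (12, -3), (13, -2), (17, -2), (23, -1), (32, -1), (33, -1), (38, -1), (39, -1), (41, -1), (53, -1), (54, -1), (56, -1), (57, -1), (73, -1), (75, -1), (76, -1), (78, -2), (84, -1), (86, -1), (87, -3), (89, -1), (91, -2), (96, -1), (99, -1), (101, -2), (103, -3), (104, -2)]),
    (sv 129 [(6, 1), (8, 1), (9, 1), (10, 2), (11, 2), (12, 3), (13, 1), (22, 2), (31, 1), (33, 1), (44, 1), (46, 1), (48, 1), (52, 1), (54, 1), (56, 1), (58, 1), (61, 1), (63, 1), (65, 1), (67, 2), (68, 1), (77, 2), (78, 2), (79, 1), (88, 2), (89, 2), (90, 2), (91, 2), (100, 1), (101, 1), (102, 2)]),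
    (sv 129 [(5, -1), (7, -1), (9, -1), (10, -1), (11, -3), (12, -2), (13, -2), (19, -2), (27, -1), (38, -1), (40, -1), (53, -1), (55, -1), (57, -1), (62, -1), (64, -1), (66, -1), (68, -1), (72, -1), (74, -1), (76, -2), (78, -1), (79, -2), (85, -1), (87, -1), (89, -1), (90, -2), (91, -3), (97, -1), (99, -1), (101, -1), (102, -3), (103, -3)]),
    (sv 129 [(11, -1), (12, -2), (13, -1), (37, -1), (39, -1), (41, -1), (42, 1), (43, -1), (49, 1), (54, -1), (56, -1), (57, 1), (58, 1), (60, -1), (61, -1), (63, -1), (65, -1), (66, 1), (68, -1), (70, -1), (71, -1), (75, -1), (77, 1), (79, -3), (80, 1), (88, -1), (89, -1), (90, -3), (91, -2), (98, -1), (100, 1), (101, 1), (102, -1), (103, -3), (104, -2)]),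
    (sv 129 [(6, 1), (11, 2), (12, 2), (13, -1), (24, 2), (26, -1), (28, -1), (29, 1), (40, 1), (41, 2), (47, 1), (48, 2), (54, -1), (55, -1), (57, -1), (58, -1), (64, 1), (65, 2), (68, 1), (69, 1), (75, 2), (77, 1), (78, -2), (79, 2), (85, -1), (86, 1), (88, 1), (89, -1), (90, 1), (91, 2), (96, -1), (98, 2), (99, -1), (100, -1), (102, -1), (103, 1)]),
    (sv 129 [(11, 1), (12, 2), (13, -1), (26, -1), (28, 1), (29, 1), (33, 1), (34, -1), (37, -1), (39, 1), (41, -1), (42, 1), (44, -1), (47, -1), (48, 1), (49, -1), (50, 1), (54, 1), (55, -1), (59, 1), (61, -1), (64, -2), (66, -2), (73, 1), (75, 1), (76, -2), (78, -4), (79, -1), (86, 1), (87, -2), (90, -2), (91, 2), (98, 1), (101, 1), (102, -3), (104, 2)]),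
    (sv 129 [(2, -1), (4, -1), (6, -2), (8, -2), (9, -2), (10, -4), (11, -3), (12, -5), (13, -3), (14, -2), (16, -1), (21, -1), (22, -1), (30, -1), (31, -1), (33, -2), (43, -1), (44, -1), (46, -2), (48, -2), (51, -1), (52, -1), (54, -2), (56, -2), (58, -2), (60, -1), (61, -1), (63, -2), (65, -2), (67, -4), (68, -3), (77, -3), (78, -3), (79, -1), (88, -4), (89, -3), (90, -3), (91, -3), (100, -3), (101, -2), (102, -4)]),
    (sv 129 [(6, -1), (8, -1), (9, -2), (10, -1), (11, -2), (12, -4), (13, -4), (22, -1), (25, -1), (26, -1), (28, -1), (31, -1), (33, 1), (36, -1), (37, -1), (39, -1), (41, -1), (43, -1), (48, -2), (52, -1), (54, 1), (58, -1), (60, -1), (61, -1), (65, -2), (66, 1), (68, -2), (71, -1), (73, -1), (75, -1), (76, -1), (77, -3), (78, -2), (79, -4), (86, -1), (87, -2), (88, -1), (90, -1), (91, -1), (94, -1), (96, -1), (98, -2), (99, -3), (100, -2), (102, -2), (103, -3), (104, -3)]),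
    (sv 129 [(9, -1), (12, 2), (13, -1), (22, -1), (24, 1), (27, 1), (31, -1), (32, 1), (33, 1), (35, 1), (37, -1), (38, 1), (41, -1), (47, -1), (48, -2), (49, -2), (50, 1), (52, -1), (53, 1), (57, 1), (58, -1), (59, 1), (63, -1), (64, -1), (65, -2), (66, -2), (67, -1), (68, -3), (69, 1), (72, 1), (73, -1), (75, 2), (76, -1), (77, -2), (78, -1), (79, -1), (86, 1), (87, -3), (88, -2), (90, -2), (96, 1), (97, 1), (98, 1), (99, -1), (100, -1), (101, 1), (102, -2), (103, 3)]),
    (sv 129 [(5, 1), (6, 1), (7, 1), (8, 1), (9, 1), (10, 1), (11, 5), (12, 4), (13, 5), (15, 1), (20, 1), (24, 1), (28, 1), (33, 1), (34, 2), (35, 1), (39, 1), (40, 1), (42, 1), (47, 1), (48, 1), (49, 1), (54, 1), (55, 2), (56, 1), (57, 2), (58, 3), (59, 1), (64, 1), (65, 1), (66, 1), (67, 1), (73, 1), (75, 3), (76, 1), (77, 1), (78, 2), (79, 1), (85, 1), (86, 1), (88, 1), (89, 2), (90, 1), (91, 3), (98, 1), (99, 3), (100, 1), (101, 4), (102, 5), (103, 5), (104, 4)]),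
    (sv 129 [(4, 1), (6, 1), (7, 1), (8, 1), (9, 1), (10, 1), (11, 3), (12, 4), (13, 4), (17, 2), (19, -1), (20, 1), (23, 1), (27, 1), (28, 1), (29, 1), (33, 1), (34, 1), (35, 1), (38, 1), (40, -1), (41, 2), (45, 1), (46, 2), (47, 1), (48, 1), (49, 2), (50, 1), (56, 1), (62, 1), (63, 1), (65, 1), (66, 1), (68, 2), (73, 1), (74, -1), (75, 2), (77, 3), (78, 2), (79, 3), (84, 2), (85, -1), (86, 1), (87, 4), (88, 1), (89, 3), (90, 3), (91, 5), (96, 2), (98, 2), (99, 2), (100, 2), (101, 4), (102, 2), (103, 4), (104, 4)]),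
    (sv 129 [(9, -1), (10, -2), (11, -1), (12, 1), (13, 1), (19, -1), (20, 1), (21, -1), (23, 1), (28, -1), (30, -1), (31, -1), (32, 1), (36, -1), (37, -1), (39, 1), (40, 1), (41, -1), (44, -1), (45, 1), (46, 1), (47, 1), (49, 2), (51, -1), (52, -1), (53, 1), (56, -1), (58, -1), (62, 1), (63, 1), (64, 1), (65, -1), (66, 1), (67, -1), (68, -2), (73, -1), (75, -2), (76, -1), (77, 2), (78, -1), (79, -1), (82, -1), (84, 1), (85, 1), (87, 1), (88, 3), (89, 1), (90, 2), (91, 1), (94, -1), (97, 1), (98, -2), (99, -1), (100, -1), (101, -4), (102, -3), (103, -6)]),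
    (sv 129 [(2, 1), (4, 1), (5, 1), (6, 3), (7, 1), (8, 3), (9, 6), (10, 4), (11, 11), (12, 11), (13, 11), (14, 2), (15, 1), (16, 1), (20, 1), (21, 1), (22, 1), (25, 1), (26, 2), (28, 1), (29, 1), (31, 1), (33, 3), (34, 1), (36, 1), (37, 2), (39, 1), (40, 1), (41, 3), (42, 1), (43, 1), (44, 1), (46, 2), (47, 2), (48, 2), (49, 2), (50, 1), (52, 1), (54, 3), (55, 1), (56, 4), (57, 4), (58, 5), (59, 1), (60, 1), (61, 2), (63, 1), (65, 2), (66, 1), (67, 2), (68, 6), (71, 1), (74, 1), (75, 3), (76, 5), (77, 7), (78, 8), (79, 7), (84, 1), (85, 1), (86, 2), (87, 4), (88, 7), (89, 9), (90, 5), (91, 13), (94, 1), (96, 1), (98, 4), (99, 4), (100, 4), (101, 7), (102, 7), (103, 10), (104, 7)])]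

/-- part of the data -/
def p2Eqs4 : List (List Int) :=
  [(sv 129 [(0, 1), (1, 1), (2, 2), (4, 1), (6, 3), (7, 2), (8, 6), (9, 6), (10, 6), (11, 11), (12, 14), (13, 16), (14, 1), (15, 1), (16, 2), (21, 1), (22, 1), (24, 1), (25, 2), (26, 2), (31, 1), (33, 1), (34, 1), (35, 1), (36, 2), (37, 4), (39, 2), (40, 1), (41, 2), (42, 1), (43, 2), (44, 2), (46, 2), (47, 4), (48, 4), (49, 5), (50, 1), (51, 1), (54, 3), (55, 3), (56, 3), (57, 7), (58, 11), (60, 1), (61, 3), (63, 1), (65, 1), (66, 2), (67, 4), (68, 3), (69, 1), (71, 1), (75, 2), (76, 6), (77, 10), (78, 10), (79, 11), (80, 1), (81, 1), (82, 1), (85, 2), (86, 2), (87, 6), (88, 14), (89, 6), (90, 7), (91, 11), (93, 1), (96, 2), (97, -1), (98, 3), (99, 4), (100, 11), (101, 12), (102, 14), (103, 11), (104, 16), (105, 2), (109, -1), (111, -1), (112, -1), (114, -1)]),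
    (sv 129 [(10, 2), (11, -1), (12, 1), (13, 1), (61, 1), (63, 1), (64, 1), (68, 1), (78, 1), (79, 3), (84, 1), (89, 1), (90, 3), (91, -1), (94, 1), (96, -1), (97, 1), (102, 4), (103, -1), (104, 2), (106, 2), (112, -1), (113, -1), (114, -1), (115, -1)]),
    (sv 129 [(2, -1), (4, 1), (5, 1), (6, -1), (9, -2), (11, 3), (13, 4), (15, -1), (16, -1), (20, 1), (21, 1), (24, 1), (25, 1), (26, -1), (28, 2), (29, -1), (30, 1), (37, -1), (39, 1), (41, -1), (43, 1), (44, -1), (46, 2), (47, 1), (48, -3), (54, 1), (55, 1), (56, -1), (57, -1), (58, 1), (61, -1), (63, 2), (64, 2), (65, -1), (66, 1), (67, 2), (69, 1), (73, 1), (74, 1), (75, 1), (77, 4), (78, 1), (79, 2), (88, -3), (90, 1), (91, 2), (92, 1), (93, 1), (96, 1), (98, 1), (99, 1), (100, 1), (102, 3), (103, 5), (104, 1), (107, 2)]),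
    (sv 129 [(10, 1), (11, 1), (12, 2), (59, 1), (60, 1), (63, 1), (69, 1), (70, 1), (73, 1), (79, 1), (84, 1), (91, 2), (108, 2)]),
    (sv 129 [(2, -1), (4, -1), (5, 1), (6, -1), (8, -2), (9, -1), (11, -2), (12, -4), (13, -3), (22, -1), (33, -1), (37, -1), (39, -1), (40, 1), (44, -1), (46, -2), (48, -1), (49, -1), (54, -2), (56, -1), (57, -1), (58, -3), (63, -2), (64, 1), (65, -1), (67, -2), (68, -1), (73, -1), (76, 1), (77, -2), (78, -1), (79, -2), (82, -1), (84, -1), (85, 1), (87, -1), (88, -5), (89, -2), (90, -2), (91, -3), (96, -1), (99, 1), (100, -4), (101, -3), (102, -4), (103, -3), (104, -5), (109, 2), (113, -1), (114, -1), (115, -1)]),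
    (sv 129 [(0, -1), (1, -1), (2, -2), (4, -1), (6, -2), (7, -2), (8, -4), (9, -6), (10, -6), (11, -10), (12, -12), (13, -13), (14, -1), (15, -1), (16, -2), (21, -1), (22, -1), (25, -1), (26, -2), (28, -1), (30, -1), (31, -2), (33, -2), (34, 1), (35, -1), (36, -2), (37, -3), (39, -1), (40, -1), (41, -2), (42, -1), (43, -2), (44, -1), (46, -1), (48, -2), (49, -4), (50, -1), (51, -1), (52, -2), (54, -2), (55, 1), (56, -3), (57, -6), (58, -6), (60, -1), (61, -2), (63, -1), (65, -2), (66, -2), (67, -4), (68, -6), (70, -1), (71, -2), (74, -1), (75, -1), (76, -5), (77, -5), (78, -6), (79, -4), (80, -1), (85, -1), (86, -2), (87, -5), (88, -9), (89, -9), (90, -5), (91, -14), (93, -1), (94, -1), (96, -1), (97, 1), (98, -3), (99, -5), (100, -7), (101, -11), (102, -9), (103, -12), (104, -14), (110, 2), (115, -1)]),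
    (sv 129 [(9, 1), (10, -1), (12, -1), (78, 1), (79, -1), (90, -1), (91, -1), (112, 2)]),
    (sv 129 [(10, -1), (11, 1), (114, 2)]),
    (sv 129 [(5, 1), (6, 2), (7, 1), (8, 1), (9, 1), (10, 3), (11, 4), (12, 5), (13, 5), (15, 1), (16, 1), (20, 1), (21, 1), (22, 1), (24, 1), (25, 1), (31, 2), (33, 2), (34, 2), (37, -1), (43, 1), (46, 1), (47, 1), (48, 2), (51, 1), (54, 1), (55, 1), (56, 3), (57, 2), (58, 4), (59, 1), (61, 1), (63, 2), (64, 2), (65, 2), (67, 2), (68, 1), (71, 1), (73, 2), (74, 1), (75, 3), (76, -1), (77, 4), (78, -2), (79, 4), (81, 1), (88, 3), (89, 2), (90, 1), (91, 2), (92, 1), (94, 1), (96, -2), (97, 1), (98, 2), (99, 1), (100, 1), (101, 3), (102, 5), (103, 3), (104, 3), (114, -1), (115, -1)]),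
    (sv 129 [(2, 1), (4, 1), (6, 3), (7, 1), (8, 3), (9, 4), (10, 4), (11, 4), (12, 7), (13, 15), (20, 2), (21, 2), (22, 3), (24, 1), (25, 1), (26, 3), (28, 3), (29, 1), (30, 2), (33, 2), (34, 2), (35, -1), (36, -1), (39, 2), (40, -1), (41, -1), (43, 1), (46, 4), (47, 1), (48, 2), (50, 1), (54, 3), (55, 3), (56, 4), (57, -2), (58, 3), (59, 1), (61, -1), (63, 2), (64, 4), (65, 4), (66, 3), (67, 6), (68, 5), (69, 1), (71, 3), (73, 1), (75, 5), (76, 1), (78, 8), (79, 11), (81, -1), (85, -1), (86, 3), (87, -1), (88, 1), (89, 8), (90, 3), (91, 5), (92, 2), (93, 1), (94, 3), (96, 2), (97, -1), (98, 5), (99, 2), (100, 4), (101, -3), (102, 11), (103, 8), (104, 5), (109, -1), (111, -1), (114, -1), (115, -1)]),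
    (sv 129 [(6, 1), (8, 1), (9, 2), (10, 2), (11, 1), (12, 2), (13, 5), (22, 2), (26, 2), (33, 1), (34, 1), (44, 1), (48, 1), (54, 2), (55, 2), (56, 2), (58, 2), (59, -1), (60, 1), (63, 1), (64, 1), (67, 2), (71, 2), (74, -1), (78, 3), (79, 5), (81, -1), (82, 1), (88, 1), (90, 2), (92, -1), (93, 1), (94, 2), (98, 1), (100, 1), (101, 1), (102, 1), (103, -3), (104, -2), (114, -1)]),
    (sv 129 [(6, 1), (8, 1), (9, 1), (10, 2), (11, 1), (12, 2), (13, 4), (24, 1), (25, 1), (26, 2), (28, 1), (30, 1), (31, 1), (33, 1), (35, 1), (36, 1), (39, -1), (40, -1), (41, -1), (43, 1), (44, -1), (46, -1), (47, -2), (48, -1), (49, -1), (52, 2), (54, -1), (55, -1), (56, 1), (57, 2), (58, 2), (59, 1), (61, 1), (65, -1), (66, 3), (67, 4), (71, 2), (75, 2), (76, 4), (77, 2), (80, 1), (82, 1), (85, -1), (86, 2), (88, -3), (89, -3), (90, -1), (91, -1), (93, 1), (94, 1), (96, -1), (97, 1), (98, 3), (99, 3), (102, 1), (103, 1), (104, 4), (112, -1), (114, -1), (115, -1)]),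
    (sv 129 [(5, -1), (6, 1), (7, -1), (10, 1), (11, -2), (13, -2), (15, -1), (16, -1), (20, -1), (21, -1), (22, 1), (24, 1), (25, 1), (33, -1), (34, -1), (39, -1), (40, -1), (42, -1), (46, 1), (54, 1), (55, -1), (56, 1), (59, 1), (63, 1), (64, -1), (66, -1), (74, -1), (75, -1), (77, 3), (78, 1), (79, 2), (85, -1), (88, 1), (89, -1), (90, 2), (91, -1), (93, 1), (96, -1), (99, -2), (101, -1), (102, -2), (103, -2), (104, -6), (112, -1), (113, -1), (114, -1)]),
    (sv 129 [(5, 1), (6, 3), (7, 1), (8, 1), (9, 4), (10, 5), (11, 4), (12, 7), (13, 10), (15, 1), (16, 1), (20, 1), (21, 1), (22, 1), (24, 2), (25, 2), (26, 2), (28, 1), (29, 2), (30, 1), (31, 1), (33, 1), (34, 2), (37, -1), (40, -1), (41, -2), (42, 1), (43, 2), (44, 1), (46, 1), (47, 1), (48, 2), (49, 1), (50, 2), (51, 2), (52, -1), (54, 1), (55, 1), (56, 3), (57, 2), (58, 8), (60, 1), (63, 1), (64, 1), (65, 3), (67, 3), (68, 4), (69, 1), (70, 1), (71, 1), (73, 1), (75, 5), (76, 1), (77, 5),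 (78, 1), (79, 6), (80, 1), (81, 1), (84, -1), (85, -1), (86, 2), (87, -1), (88, 3), (89, 5), (90, 4), (91, 4), (92, 2), (93, 2), (94, 2), (96, -1), (97, 1), (98, 2), (99, 3), (100, 5), (101, 2), (102, 7), (103, 5), (104, 3), (114, -1)]),
    (sv 129 [(6, 1), (8, -1), (9, 1), (12, 2), (13, -3), (24, 1), (25, 1), (28, 1), (29, 2), (30, -1), (31, -1), (33, 1), (34, 1), (35, -1), (36, -1), (37, -1), (41, -1), (42, 1), (46, 1), (48, -2), (49, -1), (50, 1), (52, -1), (55, -1), (56, -2), (57, -1), (58, -1), (59, 1), (60, 1), (64, -1), (65, -2), (67, -3), (68, -4), (71, -1), (74, -1), (75, 2), (76, -1), (77, -2), (78, -2), (79, 3), (80, -1), (81, 1), (84, 1), (85, 1), (86, 1), (87, -1), (89, -1), (90, 2), (91, -1), (92, 1), (96, 1), (97, -1), (99, -2), (101, -3), (102, -3), (103, -5), (104, -1), (112, -1), (114, -1)]),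
    (sv 129 [(6, 1), (11, -1), (13, -1), (15, -1), (16, -1), (20, 1), (21, 1), (22, 1), (24, 1), (25, 1), (26, -1), (28, 2), (29, 1), (30, -1), (35, -1), (36, -1), (37, -1), (41, -1), (44, -1), (46, 2), (48, -1), (54, -1), (57, -1), (58, 1), (60, 1), (61, -1), (63, 1), (65, -1), (66, 1), (67, -2), (68, -4), (73, -1), (74, -1), (75, 1), (76, -1), (77, -1), (78, -1), (79, 2), (80, -1), (81, 1), (84, 1), (86, 1), (87, -2), (88, -2), (90, 2), (91, 2), (92, 1), (96, 1), (101, -4), (102, 1), (103, -3), (104, -2), (112, -1), (113, -1), (115, -1)]),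
    (sv 129 [(5, -1), (6, 1), (7, -1), (10, 2), (11, -2), (13, -1), (15, -1), (16, -1), (20, -1), (21, -1), (22, 1), (24, 1), (25, 1), (33, -1), (34, -1), (39, -1), (40, -1), (42, -1), (46, 1), (50, 1), (51, 1), (55, -1), (56, 1), (64, -1), (66, -1), (70, 1), (73, -1), (74, -1), (75, -1), (77, 3), (79, 4), (80, 1), (81, -1), (85, -1), (88, 1), (89, 1), (90, 3), (91, -2), (92, 1), (99, -2), (104, -2), (112, -1), (113, -1), (114, -1), (115, -1)]),
    (sv 129 [(10, -1), (11, -1), (12, -1), (13, -1), (50, -1), (51, -1), (52, -1), (57, -1), (58, -1), (60, -1), (70, -1), (71, -1), (74, 1), (75, 1), (77, 1), (78, 1), (81, -1), (85, 1), (86, 1), (88, 1), (89, 2), (93, -1), (94, -1), (97, 1), (98, 1), (100, 1), (101, 1), (103, -1), (104, -1)]),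
    (sv 129 [(11, -1), (52, -1), (54, -1), (57, -1), (58, -1), (73, -1), (74, 1), (76, 1), (78, 1), (85, 1), (87, 1), (89, 1), (91, -1), (97, 1), (99, 1), (101, 1), (103, -1)]),
    (sv 129 [(61, -1), (63, -1), (64, -1), (65, -1), (68, -1), (69, 1), (70, 1), (71, 1), (74, 1), (76, 1), (77, 1), (78, 1), (79, 1), (81, 1), (84, -1), (90, 1), (91, -1), (97, 1), (98, -1), (99, 1), (100, 1), (102, 1), (115, -1)])]

/-- part of the data -/
def p2Eqs5 : List (List Int) :=
  [(sv 129 [(59, -1), (60, -1), (63, -1), (69, 1), (70, 1), (73, 1), (79, 1), (84, -1)]),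
    (sv 129 [(12, -1), (61, -1), (63, -1), (66, -1), (67, -1), (74, 1), (76, 1), (79, 1), (84, -1), (90, 1), (91, -1)]),
    (sv 129 [(12, -1), (59, -1), (60, -1), (61, -1), (66, -1), (67, -1), (68, -1), (74, 1), (75, 1), (77, 1), (78, 1), (81, -1), (82, -1), (90, 1), (103, -1)]),
    (sv 129 [(68, -1), (91, -1), (103, -1)]),
    (sv 129 [(92, 1), (93, 1), (96, -1), (98, -1), (99, 1), (100, 1)]),
    (sv 129 [(2, -1), (3, -2), (6, -2), (7, -1), (9, -1), (11, -4), (12, -7), (13, -6), (16, -1), (18, -1), (19, -1), (22, -1), (23, -1), (25, 1), (27, -2), (32, -2), (33, -1), (38, -1), (39, -1), (40, -1), (41, -2), (43, 1), (45, -2), (46, -1), (47, -1), (48, -3), (49, -3), (51, 1), (53, -3), (55, -1), (56, -1), (57, -2), (58, 2), (60, 1), (62, -2), (64, -2), (65, -1), (66, -2), (68, -2), (70, 1), (72, -2), (75, -1), (76, -1), (78, -1), (79, -4), (81, 1), (84, -1), (85, -1), (86, -2), (87, -3), (88, -3), (90, -1), (91, -7), (93, 1), (95, -1), (96, -1),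 (97, 1), (98, -4), (99, -1), (100, 1), (101, -4), (102, -4), (103, -7), (104, -7), (116, 2), (118, -1), (121, -1), (124, -1), (126, -1), (127, -1)]),
    (sv 129 [(3, -1), (5, 1), (6, 1), (8, 1), (9, 1), (10, 1), (11, 1), (12, 2), (13, 2), (34, 1), (47, 1), (48, 1), (55, 1), (56, 1), (58, 1), (64, 1), (65, 1), (67, 1), (68, 1), (75, 1), (77, 1), (85, 1), (86, 1), (88, 2), (89, 1), (90, 1), (100, 1), (101, 1), (102, 3), (104, 2), (117, 2)]),
    (sv 129 [(1, -1), (2, 1), (4, 1), (6, 1), (8, 1), (9, 2), (10, 1), (11, 2), (12, 2), (13, 1), (22, 1), (33, 1), (46, 1), (48, 1), (52, 1), (54, 2), (56, 1), (58, 1), (63, 1), (65, 1), (67, 1), (68, 1), (73, 1), (77, 1), (78, 1), (88, 2), (89, 1), (90, 1), (91, 1), (100, 1), (101, 1), (102, 2), (119, 2)]),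
    (sv 129 [(4, -1), (9, 1), (12, 1), (13, 1), (89, 1), (101, 1), (104, 1), (120, 2)]),
    (sv 129 [(3, 1), (4, -1), (6, 1), (8, -1), (12, 1), (32, 1), (38, 1), (39, -1), (41, 1), (46, -1), (49, -1), (53, 1), (54, -1), (56, 1), (58, -1), (62, 1), (63, -1), (65, 1), (67, -1), (73, -1), (76, 1), (78, 2), (79, 2), (83, 1), (84, -1), (87, 2), (88, -2), (90, 1), (95, 1), (100, -3), (101, -1), (102, 1), (104, -1), (121, 2), (126, -1)]),
    (sv 129 [(3, 1), (6, 1), (8, 1), (9, 1), (11, 2), (12, 4), (13, 2), (23, 1), (32, 1), (33, 1), (38, 1), (41, 1), (45, 1), (46, 1), (48, 1), (49, 1), (53, 1), (54, 1), (56, 1), (57, 1), (58, 1), (73, 1), (75, 1), (76, 1), (77, 2), (78, 2), (83, 1), (86, 1), (87, 4), (88, 2), (89, 2), (91, 2), (95, 1), (99, 1), (100, 3), (101, 3), (103, 4), (104, 2), (122, 2), (128, -1)]),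
    (sv 129 [(4, 1), (6, -1), (8, 1), (11, 1), (12, 1), (46, 1), (73, 1), (77, 1), (84, 1), (88, 1), (91, 1), (103, 2), (104, 2), (123, 2), (128, -1)]),
    (sv 129 [(5, 1), (6, 1), (7, 1), (9, 1), (11, 2), (12, 2), (13, 2), (34, 1), (40, 1), (41, 1), (47, 1), (48, 1), (49, 1), (55, 1), (56, 1), (57, 1), (58, 1), (75, 2), (76, 1), (77, 1), (78, 2), (86, 1), (87, 2), (88, 3), (89, 2), (91, 2), (98, 1), (100, 1), (101, 2), (103, 1), (104, 3), (124, 2), (127, -1), (128, -1)]),
    (sv 129 [(12, -1), (13, 1), (128, 2)]),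
    (sv 129 [(3, -1), (4, -1), (5, -1), (6, -1), (7, -1), (8, -2), (9, -2), (11, -6), (12, -9), (13, -7), (18, -1), (19, -1), (22, -1), (23, -1), (25, 1), (27, -2), (28, -2), (30, 1), (32, -2), (33, -1), (34, -2), (38, -1), (39, -2), (40, -1), (41, -1), (43, 1), (45, -2), (46, -1), (47, -1), (48, -3), (49, -2), (51, 1), (53, -1), (54, -2), (55, -1), (56, -2), (57, -1), (58, -2), (60, 1), (63, -1), (65, -2), (72, -1), (73, -3), (74, -1), (75, -5), (76, -2), (77, -4), (78, -4), (79, 2), (81, 1), (83, -3), (84, -1), (85, -1), (86, -4), (87, -1), (88, -6), (89, -3), (90, -1), (91, -10), (95, -2), (96, -1), (97, -3), (98, -4), (99, -2), (100, -5), (101, -8), (102, -5), (103, -9), (104, -6), (118, -1), (122, -1), (123, -1), (124, -1), (128, -1)]),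
    (sv 129 [(8, -1), (9, -1), (10, 1), (11, -4), (12, -4), (13, -4), (18, 1), (26, -1), (27, -2), (30, 1), (31, -1), (32, -1), (33, -1), (43, 1), (45, -1), (48, -2), (51, 1), (52, -1), (53, -1), (55, -1), (56, -1), (62, -2), (63, -1), (64, -1), (65, -2), (67, -2), (68, -2), (70, 1), (71, -1), (72, -2), (74, -1), (77, -1), (78, -1), (82, -1), (83, -2), (84, -1), (85, 1), (88, -3), (90, -2), (91, -3), (93, 1), (94, -1), (95, -1), (98, -1), (100, 2), (101, -4), (102, -4), (103, -4), (104, -1), (123, -1), (125, -1), (128, -1)]),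
    (sv 129 [(11, -1), (12, -2), (13, -2), (27, -2), (32, -1), (45, -1), (53, -1), (62, -1), (64, -1), (65, -1), (67, -1), (68, -1), (74, 1), (75, 1), (77, 1), (78, 1), (83, -1), (85, -1), (86, -2), (88, -1), (89, -2), (91, -2), (97, 1), (101, -1), (102, -3), (103, 2), (104, -3), (128, -1)]),
    (sv 129 [(4, 1), (9, -1), (11, -1), (12, -2), (13, -1), (16, 2), (18, 1), (21, 1), (26, -1), (28, -1), (44, -1), (46, -1), (51, 1), (52, -1), (55, 1), (61, -1), (64, 1), (67, 1), (71, -1), (77, -1), (78, -2), (79, -1), (82, -1), (84, -1), (88, -1), (89, -1), (90, -1), (91, -1), (94, -1), (96, -1), (100, -2), (101, -1), (102, -1), (103, -2), (104, -3), (120, -1)]),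
    (sv 129 [(3, -1), (5, -1), (6, -1), (7, -1), (8, -1), (9, -2), (10, -1), (11, -5), (12, -4), (13, -6), (19, -1), (23, -1), (25, 1), (26, -1), (28, 2), (31, -1), (32, -1), (34, -1), (38, -1), (39, -1), (40, -2), (41, -3), (44, -1), (45, -2), (46, -1), (47, -1), (48, -2), (49, -2), (52, -1), (54, -1), (56, -1), (62, -1), (64, -1), (65, -1), (67, 1), (68, -4), (71, -1), (72, -2), (74, -1), (75, 1), (76, -4), (77, -4), (78, -5), (79, -3), (83, -2), (84, -1), (85, 1), (87, -5), (88, -2), (89, -5), (90, -1), (91, -9), (94, -1), (99, -2), (100, -4), (101, -6), (102, -5), (103, -6), (104, -4), (121, -1), (122, -1), (123, -1), (124, -1), (125, -1), (126, -1), (128, -1)]),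
    (sv 129 [(3, -1), (6, -1), (8, -1), (9, -1), (11, -4), (12, -7), (13, -4), (21, -1), (22, -1), (23, -1), (27, -2), (28, -2), (32, -2), (33, -1), (38, -1), (41, -1), (45, -3), (48, -1), (49, -1), (51, 1), (53, -2), (55, 1), (62, -2), (63, 1), (64, 1), (67, 1), (68, -1), (72, -1), (73, -1), (75, -1), (76, -1), (77, -2), (78, -3), (81, 1), (84, -1), (85, 1), (86, -2), (87, -1), (88, -3), (91, -4), (93, 1), (95, -1), (96, -1), (97, 1), (98, -3), (99, -1), (100, 1), (101, -3), (102, 2), (103, -5), (104, -5), (121, -1), (122, -1), (123, -1), (127, -1), (128, -1)])]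

/-- part of the data -/
def p2Eqs6 : List (List Int) :=
  [(sv 129 [(11, 1), (21, -1), (52, 1), (54, 1), (73, 1), (82, 1), (84, 1), (89, 1), (94, 1), (96, 1), (101, 1)]),
    (sv 129 [(8, -1), (9, -1), (11, -3), (12, -6), (13, -5), (18, 1), (21, -1), (22, -1), (23, -1), (27, -1), (28, -1), (30, 1), (32, -1), (33, -1), (34, 1), (37, -1), (38, -1), (39, -1), (40, 1), (41, 1), (43, -1), (45, -2), (46, -1), (47, 1), (49, -2), (52, -1), (53, -2), (55, 1), (57, -2), (58, 1), (62, -2), (64, 1), (66, -1), (67, 2), (68, -1), (70, -1), (71, -1), (72, -2), (73, -1), (75, -1), (76, -1), (77, 1), (78, -1), (79, -2), (82, -1), (83, -1), (87, -2), (88, -2), (89, -1), (91, -7), (93, 1), (95, -2), (98, -2), (100, 1), (101, -3), (102, 2), (103, -6), (104, -6), (123, -1), (126, -1)]),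
    (sv 129 [(11, -1), (12, -3), (13, -2), (23, -1), (27, -1), (32, -1), (34, 1), (38, -1), (40, 1), (41, 1), (45, -2), (48, -1), (49, -1), (53, -2), (55, 1), (57, -1), (58, 1), (62, -2), (64, 1), (66, -1), (67, 1), (72, -1), (75, 1), (78, 2), (83, -2), (85, 1), (86, -2), (88, -1), (89, 1), (90, 1), (91, -1), (97, 1), (98, 1), (99, -1), (101, -3), (103, -1), (104, -4), (128, -1)]),
    (sv 129 [(11, -1), (12, -1), (13, -2), (39, -1), (46, -1), (53, -1), (54, -1), (56, -1), (57, -1), (63, -1), (68, 1), (73, -1), (75, -1), (76, -1), (78, -1), (79, -2), (83, -1), (84, -1), (88, -1), (90, -1), (91, -1), (95, -1), (99, -1), (100, -1), (101, -1), (102, -2), (103, -3), (104, -3), (126, -1), (127, -1), (128, -1)]),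
    (sv 129 [(8, -1), (9, -1), (11, -3), (12, -7), (13, -3), (18, 1), (22, -1), (23, -1), (27, -1), (28, -2), (30, 1), (32, -1), (33, -1), (34, 1), (37, -1), (38, -1), (39, -1), (40, 1), (41, 1), (43, 1), (44, -1), (45, -1), (46, -1), (48, -1), (49, -2), (51, 1), (53, -1), (54, -1), (55, 1), (56, -1), (57, -2), (62, -1), (63, -2), (65, -1), (66, -1), (67, -1), (68, -1), (72, -2), (73, -2), (75, -2), (76, -1), (77, -3), (79, -1), (83, -1), (87, -2), (88, -2), (90, -3), (91, -4), (94, -1), (95, -1), (96, -1), (99, -1), (100, 2), (101, -5), (102, -4), (103, -8), (104, -5), (123, -1), (127, -1)]),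
    (sv 129 [(11, -1), (12, -1), (13, -1), (39, -1), (53, -1), (54, -1), (56, -1), (57, -1), (58, -1), (73, -1), (83, -1), (84, -1), (89, 1), (95, -1), (96, -1), (99, -1), (100, -1), (104, -1), (127, -1)]),
    (sv 129 [(12, 3), (27, 1), (32, 1), (34, -1), (38, 1), (40, -1), (45, 1), (46, -1), (48, 1), (53, 1), (55, -1), (64, -1), (65, -1), (66, -1), (68, -1), (77, 2), (78, -1), (79, -2), (85, -1), (86, 2), (88, 2), (89, -2), (90, -1), (91, -1), (97, -1), (98, -1), (99, 1), (100, -1), (101, 1), (102, -1), (103, 2), (104, 3), (127, -1), (128, -1)]),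
    (sv 129 [(11, 1), (12, 4), (13, 1), (27, 1), (28, 1), (32, 1), (33, 1), (34, -1), (38, 1), (39, 1), (40, -1), (45, 1), (47, -1), (49, -1), (53, 1), (54, 1), (55, -1), (73, 1), (75, 1), (77, -1), (84, 1), (85, -1), (86, 2), (88, 2), (91, 2), (97, -1), (98, 1), (99, 1), (100, 1), (101, 1), (103, 2), (104, 2), (127, -1), (128, -1)]),
    (sv 129 [(34, 1), (47, 1), (55, 1), (62, -1), (65, -1), (67, -1), (68, -1), (74, 1), (78, 1), (86, -1), (88, -1), (89, -1), (91, -2), (97, 1), (102, -2), (104, -2), (126, -1)]),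
    (sv 129 [(11, 1), (12, 2), (13, 1), (32, 1), (34, 1), (45, 1), (47, 1), (53, 1), (55, 1), (64, -1), (72, 1), (78, 1), (85, 1), (86, 1), (88, 2), (89, 1), (91, 2), (95, 1), (97, 1), (98, -1), (100, 1), (104, 5), (127, -1), (128, -1)]),
    (sv 129 [(13, -1), (56, -1), (58, -1), (63, -1), (78, 1), (86, -1), (88, -1), (89, -1), (91, -1), (98, -1), (101, 1), (128, -1)]),
    (sv 129 [(11, 1), (12, 2), (13, 1), (32, 1), (33, 1), (41, -1), (45, 1), (46, 1), (49, 1), (53, 1), (54, 1), (57, 1), (63, -1), (66, -1), (72, 1), (77, -1), (78, -1), (84, 1), (86, -1), (87, -2), (88, 1), (90, 1), (95, 1), (96, 1), (100, 1), (101, 1), (102, 1), (103, -1), (128, -1)]),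
    (sv 129 [(13, 1), (34, 1), (41, -1), (47, 1), (49, 1), (55, 1), (57, 1), (67, -1), (74, 1), (77, -2), (78, -1), (87, -1), (91, -1), (97, 1), (99, 1), (100, -1), (101, 2)]),
    (sv 129 [(71, -1), (72, -1), (74, 1), (77, 1), (78, 1), (79, 1), (82, -1), (83, -1), (85, 1), (88, 1), (89, 1), (90, 1), (93, 1), (95, -1), (97, 1), (100, 1), (101, 1), (102, 1), (127, -1)]),
    (sv 129 [(83, -1), (97, 1), (98, 1), (100, 1), (101, 1), (102, 1), (104, 1)]),
    (sv 129 [(81, -1), (94, 1), (96, 1), (101, 1)])]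

/-- the vectors of the relations -/
def p2Eqs : List (List Int) :=
  ([p2Eqs0, p2Eqs1, p2Eqs2, p2Eqs3, p2Eqs4, p2Eqs5, p2Eqs6] : List (List (List Int))).flatten

/-- twice the remaining vector -/
def p2Cb : List (Nat × Int) :=
  [(0, -565), (1, 2046), (2, 226), (3, -999), (4, 878), (5, 3470), (6, 1456), (7, 1181), (8, -1773), (9, -176), (10, 484), (11, 1259), (12, -2495), (13, -717), (14, -5583), (15, -5507), (16, -1187), (17, -2044), (18, 256), (19, -73), (20, -1383), (21, -1800), (22, -1973), (23, 1552), (24, -766), (25, 706), (26, -1313), (27, 154), (28, -1773), (29, 13), (30, 32), (31, 1), (32, 2078), (33, 204), (34, 2075), (35, 168), (36, -926), (37, 610), (38, -634), (39, -432), (40, -432), (41, 226), (43, 322), (45, 126), (46, -20), (47, 182), (48, -60), (49, 98), (50, 474), (51, 166), (52, -12), (53, 48), (54, -70), (56, -49), (57, 78), (58, -122), (60, 400), (62, -56), (63, -8), (65, -112), (69, -34), (70, -4), (72, 34), (75, -96), (76,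 4), (78, 68), (86, 29), (87, 16), (88, -4), (90, -56), (91, 58), (95, -34), (96, 34), (97, -28), (98, 59), (99, -54), (100, 170), (101, -746), (102, 1734), (103, -5140), (104, 109), (108, 1), (111, 18), (113, -95), (117, 2), (120, -233), (121, 108), (123, -402), (124, -72), (125, 402), (126, 148), (127, -50), (128, 294), (129, -26), (130, 130), (131, -8), (132, -448), (134, -23), (135, -61)]

end Cfsg.Agent.RigidGraph.Ru.Mult
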