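import Cfsg.Agent.Lib.RigidGraph.Ru.Mult.Defs
import Cfsg.Agent.Lib.RigidGraph.Ru.Mult.Data

/-! Kernel checks for the tail certificates on 4060 points. -/

set_option autoImplicit false
set_option maxRecDepth 100000
set_option Elab.async false

namespace Cfsg.Agent.RigidGraph.Ru.Mult

open Cfsg.Agent.PermSchur (rowsOK)
open Cfsg.Agent.PermCert (allBelow allBelow_spec)

theorem p29_wf : Tails.wfOK p29Data = true := by decide +kernel
theorem p29_facts : factsOK p29Data p29W p29FW = true := by decide +kernel
theorem p29_rels : p29Data.rels.all (fun r => match r with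
    | .assoc a b c => (a ++ b ++ c).all (fun q => Nat.blt q p29Data.a.length) | .fuse .. => true) = true := by
  decide +kernel
theorem p29_ne : chainNeOK p29Data p29W = true := by decide +kernel
theorem p29_alen : p29Data.a.length = 1 := by decide +kernel
theorem p29_wlen : p29W.length = 1 := by decide +kernel
theorem p29_rows : rowsOK p29Data = true := by decide +kernel
theorem p29_derived : Tails.derivedOK p29Data = true := by decide +kernel
theorem p29_glen : p29Data.gs.length = 0 := by decide +kernel
theorem p29_chainOK : ∀ i < 0, Tails.chainAt p29Data p29ChainP p29ChainC i = true := fun i h => absurd h (by omega)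
theorem p29_chain : Tails.Chain p29Data :=
  Tails.chain_of _ p29ChainP p29ChainC (by rw [p29_glen]; exact p29_chainOK)
theorem p29_term0 : seqAt 29 p29W.reverse p29PW p29CW 0 = true := by decide +kernel
theorem p29_term : ∀ i < 1, seqAt 29 p29W.reverse p29PW p29CW i = true
  | 0, _ => p29_term0
  | n + 1, h => absurd h (by omega)
theorem p29_seq : SeqFacts p29Data p29W p29PW p29CW :=
  ⟨by rw [p29_wlen, p29_alen], fun i hi => p29_term i (by rw [p29_alen] at hi; exact hi)⟩

theorem p13_wf : Tails.wfOK p13Data = true := by decide +kernel
theorem p13_facts : factsOK p13Data p13W p13FW = true := by decide +kernel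
theorem p13_rels : p13Data.rels.all (fun r => match r with
    | .assoc a b c => (a ++ b ++ c).all (fun q => Nat.blt q p13Data.a.length) | .fuse .. => true) = true := by
  decide +kernel
theorem p13_ne : chainNeOK p13Data p13W = true := by decide +kernel
theorem p13_alen : p13Data.a.length = 1 := by decide +kernel
theorem p13_wlen : p13W.length = 1 := by decide +kernel
theorem p13_rows : rowsOK p13Data = true := by decide +kernel
theorem p13_derived : Tails.derivedOK p13Data = true := by decide +kernel
theorem p13_glen : p13Data.gs.length = 0 := by decide +kernel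
theorem p13_chainOK : ∀ i < 0, Tails.chainAt p13Data p13ChainP p13ChainC i = true := fun i h => absurd h (by omega)
theorem p13_chain : Tails.Chain p13Data :=
  Tails.chain_of _ p13ChainP p13ChainC (by rw [p13_glen]; exact p13_chainOK)
theorem p13_term0 : seqAt 13 p13W.reverse p13PW p13CW 0 = true := by decide +kernel
theorem p13_term : ∀ i < 1, seqAt 13 p13W.reverse p13PW p13CW i = true
  | 0, _ => p13_term0
  | n + 1, h => absurd h (by omega)
theorem p13_seq : SeqFacts p13Data p13W p13PW p13CW :=
  ⟨by rw [p13_wlen, p13_alen], fun i hi => p13_term i (by rw [p13_alen] at hi; exact hi)⟩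

theorem p7_wf : Tails.wfOK p7Data = true := by decide +kernel
theorem p7_facts : factsOK p7Data p7W p7FW = true := by decide +kernel
theorem p7_rels : p7Data.rels.all (fun r => match r with
    | .assoc a b c => (a ++ b ++ c).all (fun q => Nat.blt q p7Data.a.length) | .fuse .. => true) = true := by
  decide +kernel
theorem p7_ne : chainNeOK p7Data p7W = true := by decide +kernel
theorem p7_alen : p7Data.a.length = 1 := by decide +kernel
theorem p7_wlen : p7W.length = 1 := by decide +kernel
theorem p7_rows : rowsOK p7Data = true := by decide +kernel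
theorem p7_derived : Tails.derivedOK p7Data = true := by decide +kernel
theorem p7_glen : p7Data.gs.length = 0 := by decide +kernel
theorem p7_chainOK : ∀ i < 0, Tails.chainAt p7Data p7ChainP p7ChainC i = true := fun i h => absurd h (by omega)
theorem p7_chain : Tails.Chain p7Data :=
  Tails.chain_of _ p7ChainP p7ChainC (by rw [p7_glen]; exact p7_chainOK)
theorem p7_term0 : seqAt 7 p7W.reverse p7PW p7CW 0 = true := by decide +kernel
theorem p7_term : ∀ i < 1, seqAt 7 p7W.reverse p7PW p7CW i = true
  | 0, _ => p7_term0
  | n + 1, h => absurd h (by omega)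
theorem p7_seq : SeqFacts p7Data p7W p7PW p7CW :=
  ⟨by rw [p7_wlen, p7_alen], fun i hi => p7_term i (by rw [p7_alen] at hi; exact hi)⟩

theorem p5_wf : Tails.wfOK p5Data = true := by decide +kernel
theorem p5_facts : factsOK p5Data p5W p5FW = true := by decide +kernel
theorem p5_rels : p5Data.rels.all (fun r => match r with
    | .assoc a b c => (a ++ b ++ c).all (fun q => Nat.blt q p5Data.a.length) | .fuse .. => true) = true := by
  decide +kernel
theorem p5_ne : chainNeOK p5Data p5W = true := by decide +kernel
theorem p5_alen : p5Data.a.length = 3 := by decide +kernel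
theorem p5_wlen : p5W.length = 3 := by decide +kernel
theorem p5_rows : rowsOK p5Data = true := by decide +kernel
theorem p5_derived : Tails.derivedOK p5Data = true := by decide +kernel
theorem p5_glen : p5Data.gs.length = 1 := by decide +kernel
theorem p5_chainOK0 : Tails.chainAt p5Data p5ChainP p5ChainC 0 = true := by decide +kernel
theorem p5_chainOK : ∀ i < 1, Tails.chainAt p5Data p5ChainP p5ChainC i = true
  | 0, _ => p5_chainOK0
  | n + 1, h => absurd h (by omega)
theorem p5_chain : Tails.Chain p5Data :=
  Tails.chain_of _ p5ChainP p5ChainC (by rw [p5_glen]; exact p5_chainOK)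
theorem p5_term0 : seqAt 5 p5W.reverse p5PW p5CW 0 = true := by decide +kernel
theorem p5_term1 : seqAt 5 p5W.reverse p5PW p5CW 1 = true := by decide +kernel
theorem p5_term2 : seqAt 5 p5W.reverse p5PW p5CW 2 = true := by decide +kernel
theorem p5_term : ∀ i < 3, seqAt 5 p5W.reverse p5PW p5CW i = true
  | 0, _ => p5_term0
  | 1, _ => p5_term1
  | 2, _ => p5_term2
  | n + 3, h => absurd h (by omega)
theorem p5_seq : SeqFacts p5Data p5W p5PW p5CW :=
  ⟨by rw [p5_wlen, p5_alen], fun i hi => p5_term i (by rw [p5_alen] at hi; exact hi)⟩

theorem p3_wf : Tails.wfOK p3Data = true := by decide +kernel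
theorem p3_facts : factsOK p3Data p3W p3FW = true := by decide +kernel
theorem p3_rels : p3Data.rels.all (fun r => match r with
    | .assoc a b c => (a ++ b ++ c).all (fun q => Nat.blt q p3Data.a.length) | .fuse .. => true) = true := by
  decide +kernel
theorem p3_ne : chainNeOK p3Data p3W = true := by decide +kernel
theorem p3_alen : p3Data.a.length = 3 := by decide +kernel
theorem p3_wlen : p3W.length = 3 := by decide +kernel
theorem p3_rows : rowsOK p3Data = true := by decide +kernel
theorem p3_derived : Tails.derivedOK p3Data = true := by decide +kernel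
theorem p3_glen : p3Data.gs.length = 1 := by decide +kernel
theorem p3_chainOK0 : Tails.chainAt p3Data p3ChainP p3ChainC 0 = true := by decide +kernel
theorem p3_chainOK : ∀ i < 1, Tails.chainAt p3Data p3ChainP p3ChainC i = true
  | 0, _ => p3_chainOK0
  | n + 1, h => absurd h (by omega)
theorem p3_chain : Tails.Chain p3Data :=
  Tails.chain_of _ p3ChainP p3ChainC (by rw [p3_glen]; exact p3_chainOK)
theorem p3_term0 : seqAt 3 p3W.reverse p3PW p3CW 0 = true := by decide +kernel
theorem p3_term1 : seqAt 3 p3W.reverse p3PW p3CW 1 = true := by decide +kernel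
theorem p3_term2 : seqAt 3 p3W.reverse p3PW p3CW 2 = true := by decide +kernel
theorem p3_term : ∀ i < 3, seqAt 3 p3W.reverse p3PW p3CW i = true
  | 0, _ => p3_term0
  | 1, _ => p3_term1
  | 2, _ => p3_term2
  | n + 3, h => absurd h (by omega)
theorem p3_seq : SeqFacts p3Data p3W p3PW p3CW :=
  ⟨by rw [p3_wlen, p3_alen], fun i hi => p3_term i (by rw [p3_alen] at hi; exact hi)⟩

end Cfsg.Agent.RigidGraph.Ru.Mult
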