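import Cfsg.Agent.Lib.RigidGraph.Ru.Mult.Defs
import Cfsg.Agent.Lib.RigidGraph.Ru.Mult.Data

/-! Kernel checks for the tail certificates on 4060 points. -/

set_option autoImplicit false
set_option maxRecDepth 100000
set_option Elab.async false

namespace Cfsg.Agent.RigidGraph.Ru.Mult

open Cfsg.Agent.PermSchur (rowsOK)
open Cfsg.Agent.PermCert (allBelow allBelow_spec)

theorem p2_wf : Tails.wfOK p2Data = true := by decide +kernel
theorem p2_facts : factsOK p2Data p2W p2FW = true := by decide +kernel
theorem p2_rels : p2Data.rels.all (fun r => match r with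
    | .assoc a b c => (a ++ b ++ c).all (fun q => Nat.blt q p2Data.a.length) | .fuse .. => true) = true := by
  decide +kernel
theorem p2_ne : chainNeOK p2Data p2W = true := by decide +kernel
theorem p2_alen : p2Data.a.length = 14 := by decide +kernel
theorem p2_wlen : p2W.length = 14 := by decide +kernel
theorem p2_glen : p2Data.gs.length = 11 := by decide +kernel
theorem p2_chainOK0 : Tails.chainAt p2Data p2ChainP p2ChainC 0 = true := by decide +kernel
theorem p2_chainOK1 : Tails.chainAt p2Data p2ChainP p2ChainC 1 = true := by decide +kernel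
theorem p2_chainOK2 : Tails.chainAt p2Data p2ChainP p2ChainC 2 = true := by decide +kernel
theorem p2_chainOK3 : Tails.chainAt p2Data p2ChainP p2ChainC 3 = true := by decide +kernel
theorem p2_chainOK4 : Tails.chainAt p2Data p2ChainP p2ChainC 4 = true := by decide +kernel
theorem p2_chainOK5 : Tails.chainAt p2Data p2ChainP p2ChainC 5 = true := by decide +kernel
theorem p2_chainOK6 : Tails.chainAt p2Data p2ChainP p2ChainC 6 = true := by decide +kernel
theorem p2_chainOK7 : Tails.chainAt p2Data p2ChainP p2ChainC 7 = true := by decide +kernel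
theorem p2_chainOK8 : Tails.chainAt p2Data p2ChainP p2ChainC 8 = true := by decide +kernel
theorem p2_chainOK9 : Tails.chainAt p2Data p2ChainP p2ChainC 9 = true := by decide +kernel
theorem p2_chainOK10 : Tails.chainAt p2Data p2ChainP p2ChainC 10 = true := by decide +kernel
theorem p2_chainOK : ∀ i < 11, Tails.chainAt p2Data p2ChainP p2ChainC i = true
  | 0, _ => p2_chainOK0
  | 1, _ => p2_chainOK1
  | 2, _ => p2_chainOK2
  | 3, _ => p2_chainOK3
  | 4, _ => p2_chainOK4
  | 5, _ => p2_chainOK5
  | 6, _ => p2_chainOK6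
  | 7, _ => p2_chainOK7
  | 8, _ => p2_chainOK8
  | 9, _ => p2_chainOK9
  | 10, _ => p2_chainOK10
  | n + 11, h => absurd h (by omega)
theorem p2_chain : Tails.Chain p2Data :=
  Tails.chain_of _ p2ChainP p2ChainC (by rw [p2_glen]; exact p2_chainOK)
theorem p2_term0 : seqAt 2 p2W.reverse p2PW p2CW 0 = true := by decide +kernel
theorem p2_term1 : seqAt 2 p2W.reverse p2PW p2CW 1 = true := by decide +kernel
theorem p2_term2 : seqAt 2 p2W.reverse p2PW p2CW 2 = true := by decide +kernel
theorem p2_term3 : seqAt 2 p2W.reverse p2PW p2CW 3 = true := by decide +kernel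
theorem p2_term4 : seqAt 2 p2W.reverse p2PW p2CW 4 = true := by decide +kernel
theorem p2_term5 : seqAt 2 p2W.reverse p2PW p2CW 5 = true := by decide +kernel
theorem p2_term6 : seqAt 2 p2W.reverse p2PW p2CW 6 = true := by decide +kernel
theorem p2_term7 : seqAt 2 p2W.reverse p2PW p2CW 7 = true := by decide +kernel
theorem p2_term8 : seqAt 2 p2W.reverse p2PW p2CW 8 = true := by decide +kernel
theorem p2_term9 : seqAt 2 p2W.reverse p2PW p2CW 9 = true := by decide +kernel
theorem p2_term10 : seqAt 2 p2W.reverse p2PW p2CW 10 = true := by decide +kernel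
theorem p2_term11 : seqAt 2 p2W.reverse p2PW p2CW 11 = true := by decide +kernel
theorem p2_term12 : seqAt 2 p2W.reverse p2PW p2CW 12 = true := by decide +kernel
theorem p2_term13 : seqAt 2 p2W.reverse p2PW p2CW 13 = true := by decide +kernel
theorem p2_term : ∀ i < 14, seqAt 2 p2W.reverse p2PW p2CW i = true
  | 0, _ => p2_term0
  | 1, _ => p2_term1
  | 2, _ => p2_term2
  | 3, _ => p2_term3
  | 4, _ => p2_term4
  | 5, _ => p2_term5
  | 6, _ => p2_term6
  | 7, _ => p2_term7
  | 8, _ => p2_term8
  | 9, _ => p2_term9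
  | 10, _ => p2_term10
  | 11, _ => p2_term11
  | 12, _ => p2_term12
  | 13, _ => p2_term13
  | n + 14, h => absurd h (by omega)
theorem p2_seq : SeqFacts p2Data p2W p2PW p2CW :=
  ⟨by rw [p2_wlen, p2_alen], fun i hi => p2_term i (by rw [p2_alen] at hi; exact hi)⟩

end Cfsg.Agent.RigidGraph.Ru.Mult
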