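import Cfsg.Agent.Lib.RigidGraph.Ru.Mult.Defs
import Cfsg.Agent.Lib.RigidGraph.Ru.Mult.Data

/-! Kernel checks for the tail certificates on 4060 points. -/

set_option autoImplicit false
set_option maxRecDepth 100000
set_option Elab.async false

namespace Cfsg.Agent.RigidGraph.Ru.Mult

open Cfsg.Agent.PermSchur (rowsOK)
open Cfsg.Agent.PermCert (allBelow allBelow_spec)

theorem p2_rel0 : allBelow (fun t => relAt p2Data p2Eqs (0 + t)) 20 = true := by decide +kernel
theorem p2_rel1 : allBelow (fun t => relAt p2Data p2Eqs (20 + t)) 20 = true := by decide +kernel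
theorem p2_rel2 : allBelow (fun t => relAt p2Data p2Eqs (40 + t)) 20 = true := by decide +kernel
theorem p2_rel3 : allBelow (fun t => relAt p2Data p2Eqs (60 + t)) 20 = true := by decide +kernel
theorem p2_rel4 : allBelow (fun t => relAt p2Data p2Eqs (80 + t)) 20 = true := by decide +kernel
theorem p2_rel5 : allBelow (fun t => relAt p2Data p2Eqs (100 + t)) 20 = true := by decide +kernel
theorem p2_rel6 : allBelow (fun t => relAt p2Data p2Eqs (120 + t)) 16 = true := by decide +kernel
theorem p2_rel : ∀ i < 136, relAt p2Data p2Eqs i = true := by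
  intro i hi
  rcases (show (0 ≤ i ∧ i < 20) ∨ (20 ≤ i ∧ i < 40) ∨ (40 ≤ i ∧ i < 60) ∨ (60 ≤ i ∧ i < 80) ∨ (80 ≤ i ∧ i < 100) ∨ (100 ≤ i ∧ i < 120) ∨ (120 ≤ i ∧ i < 136) by omega) with h | h | h | h | h | h | h
  · rw [show i = 0 + (i - 0) by omega]; exact allBelow_spec _ _ p2_rel0 (i - 0) (by omega)
  · rw [show i = 20 + (i - 20) by omega]; exact allBelow_spec _ _ p2_rel1 (i - 20) (by omega)
  · rw [show i = 40 + (i - 40) by omega]; exact allBelow_spec _ _ p2_rel2 (i - 40) (by omega)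
  · rw [show i = 60 + (i - 60) by omega]; exact allBelow_spec _ _ p2_rel3 (i - 60) (by omega)
  · rw [show i = 80 + (i - 80) by omega]; exact allBelow_spec _ _ p2_rel4 (i - 80) (by omega)
  · rw [show i = 100 + (i - 100) by omega]; exact allBelow_spec _ _ p2_rel5 (i - 100) (by omega)
  · rw [show i = 120 + (i - 120) by omega]; exact allBelow_spec _ _ p2_rel6 (i - 120) (by omega)
theorem p2_row0 : allBelow (fun t => rowAt p2Data p2Eqs p2V0 p2Cs (0 + t)) 10 = true := by decide +kernel
theorem p2_row1 : allBelow (fun t => rowAt p2Data p2Eqs p2V0 p2Cs (10 + t)) 10 = true := by decide +kernel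
theorem p2_row2 : allBelow (fun t => rowAt p2Data p2Eqs p2V0 p2Cs (20 + t)) 10 = true := by decide +kernel
theorem p2_row3 : allBelow (fun t => rowAt p2Data p2Eqs p2V0 p2Cs (30 + t)) 10 = true := by decide +kernel
theorem p2_row4 : allBelow (fun t => rowAt p2Data p2Eqs p2V0 p2Cs (40 + t)) 10 = true := by decide +kernel
theorem p2_row5 : allBelow (fun t => rowAt p2Data p2Eqs p2V0 p2Cs (50 + t)) 10 = true := by decide +kernel
theorem p2_row6 : allBelow (fun t => rowAt p2Data p2Eqs p2V0 p2Cs (60 + t)) 10 = true := by decide +kernel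
theorem p2_row7 : allBelow (fun t => rowAt p2Data p2Eqs p2V0 p2Cs (70 + t)) 10 = true := by decide +kernel
theorem p2_row8 : allBelow (fun t => rowAt p2Data p2Eqs p2V0 p2Cs (80 + t)) 10 = true := by decide +kernel
theorem p2_row9 : allBelow (fun t => rowAt p2Data p2Eqs p2V0 p2Cs (90 + t)) 10 = true := by decide +kernel
theorem p2_row10 : allBelow (fun t => rowAt p2Data p2Eqs p2V0 p2Cs (100 + t)) 10 = true := by decide +kernel
theorem p2_row11 : allBelow (fun t => rowAt p2Data p2Eqs p2V0 p2Cs (110 + t)) 5 = true := by decide +kernel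
theorem p2_row : ∀ i < 115, rowAt p2Data p2Eqs p2V0 p2Cs i = true := by
  intro i hi
  rcases (show (0 ≤ i ∧ i < 10) ∨ (10 ≤ i ∧ i < 20) ∨ (20 ≤ i ∧ i < 30) ∨ (30 ≤ i ∧ i < 40) ∨ (40 ≤ i ∧ i < 50) ∨ (50 ≤ i ∧ i < 60) ∨ (60 ≤ i ∧ i < 70) ∨ (70 ≤ i ∧ i < 80) ∨ (80 ≤ i ∧ i < 90) ∨ (90 ≤ i ∧ i < 100) ∨ (100 ≤ i ∧ i < 110) ∨ (110 ≤ i ∧ i < 115) by omega) with h | h | h | h | h | h | h | h | h | h | h | h
  · rw [show i = 0 + (i - 0) by omega]; exact allBelow_spec _ _ p2_row0 (i - 0) (by omega)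
  · rw [show i = 10 + (i - 10) by omega]; exact allBelow_spec _ _ p2_row1 (i - 10) (by omega)
  · rw [show i = 20 + (i - 20) by omega]; exact allBelow_spec _ _ p2_row2 (i - 20) (by omega)
  · rw [show i = 30 + (i - 30) by omega]; exact allBelow_spec _ _ p2_row3 (i - 30) (by omega)
  · rw [show i = 40 + (i - 40) by omega]; exact allBelow_spec _ _ p2_row4 (i - 40) (by omega)
  · rw [show i = 50 + (i - 50) by omega]; exact allBelow_spec _ _ p2_row5 (i - 50) (by omega)
  · rw [show i = 60 + (i - 60) by omega]; exact allBelow_spec _ _ p2_row6 (i - 60) (by omega)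
  · rw [show i = 70 + (i - 70) by omega]; exact allBelow_spec _ _ p2_row7 (i - 70) (by omega)
  · rw [show i = 80 + (i - 80) by omega]; exact allBelow_spec _ _ p2_row8 (i - 80) (by omega)
  · rw [show i = 90 + (i - 90) by omega]; exact allBelow_spec _ _ p2_row9 (i - 90) (by omega)
  · rw [show i = 100 + (i - 100) by omega]; exact allBelow_spec _ _ p2_row10 (i - 100) (by omega)
  · rw [show i = 110 + (i - 110) by omega]; exact allBelow_spec _ _ p2_row11 (i - 110) (by omega)
theorem p2_cb : (p2Cb.all (fun e => Nat.blt e.1 p2Eqs.length) &&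
    PermSchur.combine p2Data p2Eqs p2Cb == PermSchur.vsmul 2 p2V0) = true := by decide +kernel
theorem p2_relsLen : p2Data.rels.length = 136 ∧ p2Eqs.length = 136 ∧ p2Data.rows.length = 115 := by decide +kernel
theorem p2_rows : Tails.rowsModOK p2Data p2V0 p2Cs p2Cb = true :=
  rowsMod_of (by rw [p2_relsLen.1, p2_relsLen.2.1]) (by rw [p2_relsLen.1]; exact p2_rel)
    (by rw [p2_relsLen.2.2]; exact p2_row) p2_cb

end Cfsg.Agent.RigidGraph.Ru.Mult
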