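import Cfsg.Agent.Lib.RigidGraph.Ru.Mult.Defs
import Cfsg.Agent.Lib.RigidGraph.Ru.Mult.Data

/-! Kernel checks for the tail certificates on 4060 points. -/

set_option autoImplicit false
set_option maxRecDepth 100000
set_option Elab.async false

namespace Cfsg.Agent.RigidGraph.Ru.Mult

open Cfsg.Agent.PermSchur (rowsOK)
open Cfsg.Agent.PermCert (allBelow allBelow_spec)

theorem p2_conj0 : conjAt p2Data 0 = true := by decide +kernel
theorem p2_conj1 : conjAt p2Data 1 = true := by decide +kernel
theorem p2_conj2 : conjAt p2Data 2 = true := by decide +kernel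
theorem p2_conj3 : conjAt p2Data 3 = true := by decide +kernel
theorem p2_conj4 : conjAt p2Data 4 = true := by decide +kernel
theorem p2_conj5 : conjAt p2Data 5 = true := by decide +kernel
theorem p2_conj6 : conjAt p2Data 6 = true := by decide +kernel
theorem p2_conj7 : conjAt p2Data 7 = true := by decide +kernel
theorem p2_conj8 : conjAt p2Data 8 = true := by decide +kernel
theorem p2_conj9 : conjAt p2Data 9 = true := by decide +kernel
theorem p2_conj10 : conjAt p2Data 10 = true := by decide +kernel
theorem p2_conj11 : conjAt p2Data 11 = true := by decide +kernel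
theorem p2_conj12 : conjAt p2Data 12 = true := by decide +kernel
theorem p2_conj13 : conjAt p2Data 13 = true := by decide +kernel
theorem p2_conj : ∀ i < 14, conjAt p2Data i = true
  | 0, _ => p2_conj0
  | 1, _ => p2_conj1
  | 2, _ => p2_conj2
  | 3, _ => p2_conj3
  | 4, _ => p2_conj4
  | 5, _ => p2_conj5
  | 6, _ => p2_conj6
  | 7, _ => p2_conj7
  | 8, _ => p2_conj8
  | 9, _ => p2_conj9
  | 10, _ => p2_conj10
  | 11, _ => p2_conj11
  | 12, _ => p2_conj12
  | 13, _ => p2_conj13
  | n + 14, h => absurd h (by omega)

end Cfsg.Agent.RigidGraph.Ru.Mult
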