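import Cfsg.Agent.Lib.RigidGraph.Ru.Mult.Defs
import Cfsg.Agent.Lib.RigidGraph.Ru.Mult.Data
import Cfsg.Agent.Lib.RigidGraph.Ru.Mult.ChecksTwoA
import Cfsg.Agent.Lib.RigidGraph.Ru.Mult.ChecksTwoC
import Cfsg.Agent.Lib.RigidGraph.Ru.Mult.ChecksTwoD

/-! Kernel checks for the tail certificates on 4060 points. -/

set_option autoImplicit false
set_option maxRecDepth 100000
set_option Elab.async false

namespace Cfsg.Agent.RigidGraph.Ru.Mult

open Cfsg.Agent.PermSchur (rowsOK)
open Cfsg.Agent.PermCert (allBelow allBelow_spec)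

theorem p2_derived : Tails.derivedOK p2Data = true :=
  derived_of p2_gsW (by rw [p2_alen]; exact p2_comm) (by rw [p2_alen]; exact p2_conj)

end Cfsg.Agent.RigidGraph.Ru.Mult
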