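import Cfsg.Agent.Lib.RigidGraph.Ru.Group
import Cfsg.Agent.Lib.RigidGraph.Ru.Mult.Letters
import Cfsg.Agent.Lib.Schur.TailsMod
import Cfsg.Agent.Lib.Schur.SeqCard

/-! Words in six letters of the group on 4060 points, compared on the base. -/

set_option autoImplicit false
set_option maxRecDepth 100000

namespace Cfsg.Agent.RigidGraph.Ru.Mult

open Cfsg.Agent.PermSchur (SchurData rowsOK val val_cons val_append)
open Cfsg.Agent.PermCert (allBelow allBelow_spec)

/-- the base -/
def base : List ℕ := [0, 19, 1, 899]

theorem letters_ok : (alpha.map (fun s => (getN nodesG s).1) == lets) = true := by decide +kernel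

theorem alpha_lt (i : ℕ) : alpha.getD i 0 / 2 < nodesG.length := by
  rw [lengthsG.1]
  have : alpha.getD i 0 ≤ 354 := by
    match i with
    | 0 | 1 | 2 | 3 | 4 | 5 => simp [alpha]
    | n + 6 => simp [alpha]
  omega

attribute [local irreducible] nodesG lets

/-- a letter -/
noncomputable def gen (i : ℕ) : ↥ruGroup :=
  ⟨permOf 4060 (getN nodesG (alpha.getD i 0)), getN_mem slpG_ok (alpha_lt i)⟩

/-- the value of a word of letters -/
noncomputable def wordVal (w : List ℕ) : ↥ruGroup := (w.map gen).prod

/-- the action of a word -/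
def evW (w : List ℕ) (x : ℕ) : ℕ := w.foldr (fun i y => slot (lets.getD i 0) y) x

/-- the images of the base -/
def keyOf (w : List ℕ) : List ℕ := base.map (evW w)

theorem lets_eq {i : ℕ} (hi : i < 6) : lets.getD i 0 = (getN nodesG (alpha.getD i 0)).1 := by
  have h := (beq_iff_eq.1 letters_ok).symm
  rw [h, List.getD_eq_getElem _ _ (by simp [alpha]; omega), List.getElem_map, List.getD_eq_getElem]

theorem act_word : ∀ w : List ℕ, (∀ i ∈ w, i < 6) → ∀ x : Fin 4060,
    (((wordVal w : ↥ruGroup) : Equiv.Perm (Fin 4060)) x : ℕ) = evW w x := by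
  intro w
  induction w with
  | nil => intro _ x; simp [wordVal, evW]
  | cons i w ih =>
    intro hw x
    have ih' := ih (fun j hj => hw j (List.mem_cons_of_mem _ hj)) x
    simp only [wordVal, evW] at ih' ⊢
    rw [List.map_cons, List.prod_cons, Subgroup.coe_mul, Equiv.Perm.mul_apply, List.foldr_cons, gen,
      permOf_val (getN_ok slpG_ok (alpha_lt i)), ih', lets_eq (hw i List.mem_cons_self)]

theorem eq_of_key {w w' : List ℕ} (hw : ∀ i ∈ w, i < 6) (hw' : ∀ i ∈ w', i < 6) (h : keyOf w = keyOf w') :
    wordVal w = wordVal w' := by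
  rw [← inv_mul_eq_one]
  have hle : (ruGroup : Subgroup (Equiv.Perm (Fin 4060))) ≤ autG 4060 graph :=
    ruGroup_le
  refine Subtype.ext ?_
  have hbot : ((((wordVal w)⁻¹ * wordVal w' : ↥ruGroup)) : Equiv.Perm (Fin 4060)) ∈
      autG 4060 graph ⊓ fixList 4060 [0, 19, 1, 899] := by
    refine ⟨hle ((wordVal w)⁻¹ * wordVal w').2, mem_fixList.2 fun x hx => ?_⟩
    rw [Subgroup.coe_mul, Equiv.Perm.mul_apply, Subgroup.coe_inv, Equiv.Perm.inv_eq_iff_eq]
    refine Fin.ext ?_
    rw [act_word _ hw, act_word _ hw']
    exact ((List.map_inj_left.1 h) (x : ℕ) hx).symm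
  rw [fix_eq_bot_cuts (by decide) fixG_ok, Subgroup.mem_bot] at hbot
  exact hbot

theorem key_of_eq {w w' : List ℕ} (hw : ∀ i ∈ w, i < 6) (hw' : ∀ i ∈ w', i < 6)
    (h : wordVal w = wordVal w') : keyOf w = keyOf w' := by
  refine List.map_congr_left fun b hb => ?_
  have hb' : b < 4060 := by
    simp only [base, List.mem_cons, List.not_mem_nil, or_false] at hb
    omega
  have e := act_word _ hw ⟨b, hb'⟩
  rw [h, act_word _ hw' ⟨b, hb'⟩] at e
  exact e.symm

/-- an element of a list of words -/
noncomputable def el (W : List (List ℕ)) (i : ℕ) : ↥ruGroup := wordVal (W.getD i [])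

/-- a product of listed elements as a word -/
def flat (W : List (List ℕ)) (u : List ℕ) : List ℕ := u.flatMap fun q => W.getD q []

/-- all letters are letters -/
def okW (W : List (List ℕ)) : Bool := W.all fun w => w.all fun i => Nat.blt i 6

theorem wordVal_append (w w' : List ℕ) : wordVal (w ++ w') = wordVal w * wordVal w' := by
  simp [wordVal]

theorem val_el (W : List (List ℕ)) : ∀ u : List ℕ, val (el W) u = wordVal (flat W u) := by
  intro u
  induction u with
  | nil => simp [val, flat, wordVal]
  | cons q u ih => rw [val_cons, ih, el, ← wordVal_append]; simp [flat]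

theorem okW_mem {W : List (List ℕ)} (h : okW W = true) (q : ℕ) : ∀ i ∈ W.getD q [], i < 6 := by
  intro i hi
  rcases lt_or_ge q W.length with hq | hq
  · rw [List.getD_eq_getElem _ _ hq] at hi
    simp only [okW, List.all_eq_true, Nat.blt_eq] at h
    exact h _ (List.getElem_mem hq) i hi
  · rw [List.getD_eq_default _ _ hq] at hi
    simp at hi

theorem flat_lt {W : List (List ℕ)} (h : okW W = true) (u : List ℕ) : ∀ i ∈ flat W u, i < 6 := by
  intro i hi
  obtain ⟨q, -, hq⟩ := List.mem_flatMap.1 hi
  exact okW_mem h q i hq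

/-- equal images of the base -/
def keyEq (w w' : List ℕ) : Bool := keyOf w == keyOf w'

theorem keyEq_val {W : List (List ℕ)} (h : okW W = true) {u v : List ℕ}
    (e : keyEq (flat W u) (flat W v) = true) : val (el W) u = val (el W) v := by
  rw [val_el, val_el]
  exact eq_of_key (flat_lt h u) (flat_lt h v) (beq_iff_eq.1 e)

/-- the equations of the rules -/
def factsOK (d : SchurData) (W FW : List (List ℕ)) : Bool :=
  okW W && okW FW &&
  allBelow (fun i => keyEq (flat W (List.replicate d.p i)) (flat W (d.pow.getD i [])) &&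
    allBelow (fun j => keyEq (flat W [i, j]) (flat W ((d.comm.getD i []).getD j []))) i) d.a.length &&
  allBelow (fun t => allBelow (fun i =>
      keyEq (FW.getD t [] ++ flat W ((d.fus.getD t ⟨(0, 0), [], []⟩).src.getD i []))
        (flat W ((d.fus.getD t ⟨(0, 0), [], []⟩).img.getD i []) ++ FW.getD t []))
    (d.fus.getD t ⟨(0, 0), [], []⟩).src.length) d.fus.length

variable {d : SchurData} {W FW : List (List ℕ)}

theorem facts (h : factsOK d W FW = true) : Tails.Facts d (el W) (el FW) := by
  simp only [factsOK, Bool.and_eq_true] at h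
  obtain ⟨⟨⟨hW, hF⟩, h1⟩, h2⟩ := h
  refine ⟨fun i hi => ?_, fun i hi j hj => ?_, fun t ht i hi => ?_⟩
  · have h' := allBelow_spec _ _ h1 i hi
    simp only [Bool.and_eq_true] at h'
    rw [← SeqCard.val_replicate]
    exact keyEq_val hW h'.1
  · have h' := allBelow_spec _ _ h1 i hi
    simp only [Bool.and_eq_true] at h'
    rw [show el W i * el W j = val (el W) [i, j] by simp [val]]
    exact keyEq_val hW (allBelow_spec _ _ h'.2 j hj)
  · have h' := allBelow_spec _ _ (allBelow_spec _ _ h2 t ht) i hi
    rw [mul_inv_eq_iff_eq_mul, val_el, val_el, el, ← wordVal_append, ← wordVal_append]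
    refine eq_of_key ?_ ?_ (beq_iff_eq.1 h') <;>
    · intro a ha
      rcases List.mem_append.1 ha with ha | ha
      · first | exact flat_lt hW _ a ha | exact okW_mem hF _ a ha
      · first | exact flat_lt hW _ a ha | exact okW_mem hF _ a ha

/-- each listed generator of the derived group differs from the forms of the earlier ones -/
def chainNeOK (d : SchurData) (W : List (List ℕ)) : Bool :=
  allBelow (fun i => (Tails.formsOf d i).all fun f => !keyEq (flat W (d.gs.getD i ([], [])).1) (flat W f))
    d.gs.length

theorem chain_ne (hW : okW W = true) (h : chainNeOK d W = true) :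
    ∀ i < d.gs.length, ∀ f ∈ Tails.formsOf d i, val (el W) (d.gs.getD i ([], [])).1 ≠ val (el W) f := by
  intro i hi f hf e
  have h' := allBelow_spec _ _ h i hi
  simp only [List.all_eq_true, Bool.not_eq_true', keyEq, beq_eq_false_iff_ne] at h'
  rw [val_el, val_el] at e
  exact h' f hf (key_of_eq (flat_lt hW _) (flat_lt hW _) e)

/-- the images of the base under the normal words -/
def lkeys (p : ℕ) (W : List (List ℕ)) : ℕ → List (List ℕ)
  | 0 => [base]
  | i + 1 => (lkeys p W i).flatMap fun k =>
      (List.range p).map fun e => k.map (evW (flat W (List.replicate e i)))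

theorem lkeys_eq (p : ℕ) (W : List (List ℕ)) : ∀ i,
    lkeys p W i = (SeqCard.lforms p i).map fun f => keyOf (flat W f) := by
  intro i
  induction i with
  | zero =>
    have : evW [] = id := funext fun _ => rfl
    simp [lkeys, SeqCard.lforms, keyOf, flat, this]
  | succ i ih =>
    simp only [lkeys, SeqCard.lforms, ih, List.flatMap_map, List.map_flatMap, List.map_map]
    refine List.flatMap_congr fun f _ => ?_
    refine List.map_congr_left fun e _ => ?_
    simp only [Function.comp_apply, keyOf, List.map_map, flat, List.flatMap_append]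
    refine List.map_congr_left fun b _ => ?_
    simp [evW, List.foldr_append]

/-- the same sequence in the other order: each term is new and its rules are polycyclic -/
def seqAt (p : ℕ) (V : List (List ℕ)) (PW : List (List ℕ)) (CW : List (List (List ℕ))) (i : ℕ) : Bool :=
  ((PW.getD i []).all (fun q => Nat.blt q i) && keyEq (flat V (List.replicate p i)) (flat V (PW.getD i []))) &&
    allBelow (fun j => ((CW.getD i []).getD j []).all (fun q => Nat.blt q i) &&
      keyEq (flat V [i, j]) (flat V ((CW.getD i []).getD j [] ++ [i]))) i &&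
    !(lkeys p V i).contains (keyOf (V.getD i []))

/-- the checks on the reversed sequence -/
structure SeqFacts (d : SchurData) (W PW : List (List ℕ)) (CW : List (List (List ℕ))) : Prop where
  len : W.length = d.a.length
  term : ∀ i < d.a.length, seqAt d.p W.reverse PW CW i = true

theorem el_reverse {W : List (List ℕ)} {i : ℕ} (hi : i < W.length) :
    el W.reverse i = el W (W.length - 1 - i) := by
  rw [el, el, List.getD_eq_getElem _ _ (by simpa using hi), List.getD_eq_getElem _ _ (by omega),
    List.getElem_reverse]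

theorem okW_reverse {W : List (List ℕ)} (h : okW W = true) : okW W.reverse = true := by
  simpa [okW, List.all_reverse] using h

theorem card_seq (hp : d.p.Prime) (hf : factsOK d W FW = true) {PW : List (List ℕ)} {CW : List (List (List ℕ))}
    (hs : SeqFacts d W PW CW) :
    Nat.card (Subgroup.closure {x | ∃ q < d.a.length, x = el W q}) = d.p ^ d.a.length := by
  have hW : okW W.reverse = true :=
    okW_reverse (by simp only [factsOK, Bool.and_eq_true] at hf; exact hf.1.1.1)
  have he : {x | ∃ q < d.a.length, x = el W q} = {x | ∃ q < d.a.length, x = el W.reverse q} := by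
    ext x
    constructor <;> rintro ⟨q, hq, rfl⟩ <;> refine ⟨W.length - 1 - q, by rw [hs.len]; omega, ?_⟩
    · rw [el_reverse (by rw [hs.len]; omega), show W.length - 1 - (W.length - 1 - q) = q by rw [hs.len]; omega]
    · rw [el_reverse (by rw [hs.len]; omega)]
  have H : ∀ i < d.a.length, ((∀ q ∈ PW.getD i [], q < i) ∧
      el W.reverse i ^ d.p = val (el W.reverse) (PW.getD i [])) ∧
      (∀ j < i, (∀ q ∈ (CW.getD i []).getD j [], q < i) ∧
        el W.reverse i * el W.reverse j = val (el W.reverse) ((CW.getD i []).getD j [] ++ [i])) ∧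
      keyOf (W.reverse.getD i []) ∉ lkeys d.p W.reverse i := fun i hi => by
    have h := hs.term i hi
    simp only [seqAt, Bool.and_eq_true, List.all_eq_true, Nat.blt_eq, Bool.not_eq_true'] at h
    refine ⟨⟨h.1.1.1, ?_⟩, fun j hj => ?_, fun hm => ?_⟩
    · rw [← SeqCard.val_replicate]
      exact keyEq_val hW h.1.1.2
    · have h' := allBelow_spec _ _ h.1.2 j hj
      simp only [Bool.and_eq_true, List.all_eq_true, Nat.blt_eq] at h'
      exact ⟨h'.1, (show el W.reverse i * el W.reverse j = val (el W.reverse) [i, j] by simp [val]).trans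
        (keyEq_val hW h'.2)⟩
    · rw [List.contains_iff_mem.2 hm] at h
      simp at h
  rw [he]
  refine (SeqCard.closure_seq hp (el W.reverse) (fun i hi => ⟨_, (H i hi).1.1, (H i hi).1.2⟩)
    (fun i hi j hj => ⟨_, ((H i hi).2.1 j hj).1, ((H i hi).2.1 j hj).2⟩) (fun i hi f hf' e => ?_)).1
  refine (H i hi).2.2 ?_
  rw [val_el, el] at e
  rw [lkeys_eq, key_of_eq (okW_mem hW i) (flat_lt hW f) e]
  exact List.mem_map_of_mem hf'

/-- the commutators of one term with the earlier ones -/
def commAt (d : SchurData) (i : ℕ) : Bool :=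
  allBelow (fun j =>
    let I := PermSchur.invGen d i
    let J := PermSchur.invGen d j
    let W := PermSchur.gsProd d ((d.commWit.getD i []).getD j [])
    ((d.commWit.getD i []).getD j []).all (fun q => Nat.blt q d.gs.length) &&
      PermSchur.normal d (i :: j :: (I.1 ++ J.1)) (PermSchur.vadd I.2 J.2) == PermSchur.normal d W.1 W.2) i

/-- the conjugates of the listed generators by one term -/
def conjAt (d : SchurData) (i : ℕ) : Bool :=
  allBelow (fun s =>
    let I := PermSchur.invGen d i
    let W := PermSchur.gsProd d ((d.conjWit.getD i []).getD s [])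
    ((d.conjWit.getD i []).getD s []).all (fun q => Nat.blt q d.gs.length) &&
      PermSchur.normal d ((i :: (d.gs.getD s ([], [])).1) ++ I.1) (PermSchur.vadd (d.gs.getD s ([], [])).2 I.2) ==
        PermSchur.normal d W.1 W.2) d.gs.length

theorem allBelow_intro {f : ℕ → Bool} : ∀ {n : ℕ}, (∀ i < n, f i = true) → allBelow f n = true
  | 0, _ => rfl
  | n + 1, h => by
    show (allBelow f n && f n) = true
    rw [allBelow_intro fun i hi => h i (hi.trans (Nat.lt_succ_self n)), h n (Nat.lt_succ_self n)]
    rfl

theorem derived_of (h0 : d.gs.all (fun s => s.1.all fun q => Nat.blt q d.a.length) = true)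
    (h1 : ∀ i < d.a.length, commAt d i = true) (h2 : ∀ i < d.a.length, conjAt d i = true) :
    Tails.derivedOK d = true := by
  rw [Tails.derivedOK, h0, Bool.true_and]
  exact allBelow_intro fun i hi => by
    have := h1 i hi
    have := h2 i hi
    simp only [commAt, conjAt] at *
    simp only [Bool.and_eq_true]
    exact ⟨‹_›, ‹_›⟩

/-- one relation with its vector -/
def relAt (d : SchurData) (E : List (List ℤ)) (i : ℕ) : Bool :=
  PermSchur.relVec d (d.rels.getD i (.assoc [] [] [])) == (true, E.getD i [])

/-- one row over the listed vectors -/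
def rowAt (d : SchurData) (E : List (List ℤ)) (v0 cs : List ℤ) (i : ℕ) : Bool :=
  let r := d.rows.getD i (0, [], [])
  r.2.2.all (fun e => Nat.blt e.1 E.length) &&
    PermSchur.vadd (PermSchur.combine d E r.2.2) (PermSchur.vsmul (cs.getD i 0) v0) == r.2.1

theorem rowsMod_of {E : List (List ℤ)} {v0 cs : List ℤ} {cb : List (ℕ × ℤ)} (hlen : d.rels.length = E.length)
    (hE : ∀ i < d.rels.length, relAt d E i = true) (hR : ∀ i < d.rows.length, rowAt d E v0 cs i = true)
    (hc : (cb.all (fun e => Nat.blt e.1 E.length) && PermSchur.combine d E cb == PermSchur.vsmul 2 v0) = true) :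
    Tails.rowsModOK d v0 cs cb = true := by
  have hE' : d.rels.map (fun r => (PermSchur.relVec d r).2) = E ∧
      d.rels.all (fun r => (PermSchur.relVec d r).1) = true := by
    refine ⟨List.ext_getElem (by simpa using hlen) fun i h1 h2 => ?_, List.all_eq_true.2 fun r hr => ?_⟩
    · have h := beq_iff_eq.1 (hE i (by simpa using h1))
      rw [List.getD_eq_getElem _ _ (by simpa using h1), List.getD_eq_getElem _ _ h2] at h
      rw [List.getElem_map, h]
    · obtain ⟨i, hi, rfl⟩ := List.mem_iff_getElem.1 hr
      have h := beq_iff_eq.1 (hE i hi)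
      rw [List.getD_eq_getElem _ _ hi] at h
      rw [h]
  simp only [Bool.and_eq_true] at hc
  simp only [Tails.rowsModOK, hE'.1, hE'.2, Bool.true_and, Bool.and_eq_true]
  exact ⟨⟨allBelow_intro fun i hi => hR i hi, hc.1⟩, hc.2⟩

/-- one prime -/
theorem kill {X : Type*} [Group X] (ξ : X →* ↥ruGroup) (hs : Function.Surjective ξ)
    (hc : ξ.ker ≤ Subgroup.center X) (hwf : Tails.wfOK d = true) (hf : factsOK d W FW = true)
    (hr : rowsOK d = true)
    (hrel : d.rels.all (fun r => match r with
      | .assoc a b c => (a ++ b ++ c).all (fun q => Nat.blt q d.a.length) | .fuse .. => true) = true)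
    (hd : Tails.derivedOK d = true) (hcl : Tails.Chain d) (hne : chainNeOK d W = true)
    {PW : List (List ℕ)} {CW : List (List (List ℕ))} (hseq : SeqFacts d W PW CW) {p : ℕ} (hp : p.Prime) (hdp : d.p = p)
    :
    ∃ U : Subgroup ↥ruGroup, U.index = 145926144000 / p ^ d.a.length ∧ ∀ w : U.comap ξ,
      w ∈ commutator (U.comap ξ) → ξ w = 1 → (w : X) = 1 := by
  subst hdp
  have hW : okW W = true := by simp only [factsOK, Bool.and_eq_true] at hf; exact hf.1.1.1
  set U := Subgroup.closure {x | ∃ q < d.a.length, x = el W q} with hU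
  refine ⟨U, ?_, fun w hw hw1 => ?_⟩
  · have h := U.card_mul_index
    rw [card_seq hp hf hseq, card_ruGroup] at h
    rw [← h, Nat.mul_div_cancel_left _ (pow_pos hp.pos _)]
  · exact Tails.kill hwf (facts hf) hr hrel hd hcl hp (chain_ne hW hne) ξ hc
      (fun q _ => MonoidHom.mem_range.2 (hs _)) (fun t _ => MonoidHom.mem_range.2 (hs _))
      (U := U) le_rfl w hw hw1

/-- one prime, up to one kernel element -/
theorem killMod {X : Type*} [Group X] (ξ : X →* ↥ruGroup) (hs : Function.Surjective ξ)
    (hc : ξ.ker ≤ Subgroup.center X) {v0 cs : List ℤ} {cb : List (ℕ × ℤ)} (hwf : Tails.wfOK d = true)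
    (hf : factsOK d W FW = true) (hr : Tails.rowsModOK d v0 cs cb = true)
    (hrel : d.rels.all (fun r => match r with
      | .assoc a b c => (a ++ b ++ c).all (fun q => Nat.blt q d.a.length) | .fuse .. => true) = true)
    (hd : Tails.derivedOK d = true) (hcl : Tails.Chain d) (hne : chainNeOK d W = true)
    {PW : List (List ℕ)} {CW : List (List (List ℕ))} (hseq : SeqFacts d W PW CW) {p : ℕ} (hp : p.Prime) (hdp : d.p = p) :
    ∃ U : Subgroup ↥ruGroup, U.index = 145926144000 / p ^ d.a.length ∧ ∃ x : X, ∀ w : U.comap ξ,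
      w ∈ commutator (U.comap ξ) → ξ w = 1 → (w : X) = 1 ∨ (w : X) = x := by
  subst hdp
  have hW : okW W = true := by simp only [factsOK, Bool.and_eq_true] at hf; exact hf.1.1.1
  set U := Subgroup.closure {x | ∃ q < d.a.length, x = el W q} with hU
  refine ⟨U, ?_, ?_⟩
  · have h := U.card_mul_index
    rw [card_seq hp hf hseq, card_ruGroup] at h
    rw [← h, Nat.mul_div_cancel_left _ (pow_pos hp.pos _)]
  · exact Tails.kill_mod hwf (facts hf) hr hrel hd hcl hp (chain_ne hW hne) ξ hc
      (fun q _ => MonoidHom.mem_range.2 (hs _)) (fun t _ => MonoidHom.mem_range.2 (hs _)) (U := U) le_rfl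

end Cfsg.Agent.RigidGraph.Ru.Mult
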