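import Cfsg.Agent.Lib.RigidGraph.Ru.FourRu
import Cfsg.Agent.Lib.RigidGraph.Ru.Mult.Defs

/-! Two words over the two generators, equal in the group and different in the fourfold cover. -/

set_option autoImplicit false
set_option maxRecDepth 100000

namespace Cfsg.Agent.RigidGraph.Ru.Mult

attribute [local irreducible] lineWord basisW imgW0 imgW1 invW0 invW1 basisRef lineOrder lineLinks moveRef0 moveRef1
  nodesG rowsB graph lets permOf

/-- The image of a line with its power of the unit. -/
theorem lift_ref {D : Frame} {f : Cfsg.Spor.fourRu} (hf : ∀ x, (coV f x).1 = D.app x.1) {moves : Trie}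
    {imgs : List ℕ} (hlen : imgs.length = 56) (hD : ∀ j : Fin 56, D.img j = vecW (imgs.getD j 0)) {k : ℕ}
    (h0 : rangeB (moveRefOK lineWord moves basisW imgs (nodesG.getD k (0, 0)).1) 0 2030 = true)
    (h1 : rangeB (moveRefOK lineWord moves basisW imgs (nodesG.getD k (0, 0)).1) 2030 2030 = true) (x : Fin 4060) :
    slot (moves.get (Nat.div x.1 64)) (Nat.mod x.1 64) < 4 * 4060 ∧
      (coV f (lineL x)).1 = refV (slot (moves.get (Nat.div x.1 64)) (Nat.mod x.1 64)) := by
  have h : moveRefOK lineWord moves basisW imgs (nodesG.getD k (0, 0)).1 x = true := by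
    by_cases hx : x.1 < 2030
    · exact rangeB_spec h0 (Nat.zero_le _) (by omega)
    · exact rangeB_spec h1 (by omega) (by have := x.2; omega)
  simp only [moveRefOK, Bool.and_eq_true, Nat.blt_eq, Nat.beq_eq, List.all_eq_true] at h
  set r := slot (moves.get (Nat.div x.1 64)) (Nat.mod x.1 64)
  obtain ⟨⟨hr, -⟩, hdots⟩ := h
  refine ⟨hr, ?_⟩
  rw [hf]
  refine D.ext fun j => ?_
  rw [D.app_dot_img (lineL x).2 j]
  have hl := words_ok
  simp only [Bool.and_eq_true, Nat.beq_eq] at hl
  have hb : basisW.length = 56 := hl.1.1.1.1.1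
  have hj : j.1 < basisW.length := hb.symm ▸ j.2
  have hj' : j.1 < imgs.length := hlen.symm ▸ j.2
  have e := sdotEq_spec (hdots (basisW[j.1], imgs[j.1])
    (List.mem_iff_getElem.2 ⟨j.1, by simp only [List.length_zip]; omega, List.getElem_zip ..⟩))
  simp only at e
  rw [vecW_refW] at e
  rw [hD, List.getD_eq_getElem _ _ hj', dotV_comm (refV r), e, dotV_comm, basisV, List.getD_eq_getElem _ _ hj]
  rfl

/-- one of the two lifts -/
noncomputable def autoOf (i : ℕ) : Cfsg.Spor.fourRu := bif Nat.beq i 0 then auto0 else auto1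

/-- the lift of a word -/
noncomputable def liftW (w : List ℕ) : Cfsg.Spor.fourRu := (w.map autoOf).prod

/-- the move of one of the two lifts -/
noncomputable def moveOf (i : ℕ) : Trie := bif Nat.beq i 0 then moveRef0 else moveRef1

/-- the image of a line with a power of the unit, as a reference -/
noncomputable def track : List ℕ → ℕ → ℕ
  | [], r => r
  | i :: w, r =>
    let s := track w r
    let u := slot ((moveOf i).get (Nat.div (s / 4) 64)) (Nat.mod (s / 4) 64)
    4 * (u / 4) + (s % 4 + u % 4) % 4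

theorem autoOf_ref (i : ℕ) (x : Fin 4060) :
    slot ((moveOf i).get (Nat.div x.1 64)) (Nat.mod x.1 64) < 4 * 4060 ∧
      (coV (autoOf i) (lineL x)).1 = refV (slot ((moveOf i).get (Nat.div x.1 64)) (Nat.mod x.1 64)) := by
  have hl := words_ok
  simp only [Bool.and_eq_true, Nat.beq_eq] at hl
  cases h : Nat.beq i 0 with
  | true =>
    simp only [autoOf, moveOf, h, cond_true]
    exact lift_ref (D := frame0) auto0_app hl.1.1.1.1.2 (fun _ => rfl) lift0_0_ok lift0_1_ok x
  | false =>
    simp only [autoOf, moveOf, h, cond_false]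
    exact lift_ref (D := frame1) auto1_app hl.1.1.1.2 (fun _ => rfl) lift1_0_ok lift1_1_ok x

theorem track_spec {r : ℕ} (hr : r < 4 * 4060) : ∀ w : List ℕ, track w r < 4 * 4060 ∧
    ∀ h : r / 4 < 4060, (coV (liftW w) ⟨imulV^[r % 4] (lineL ⟨r / 4, h⟩).1,
      iterate_mem latV_closed (lineL _).2 _⟩).1 = refV (track w r) := by
  intro w
  induction w with
  | nil =>
    refine ⟨hr, fun h => ?_⟩
    rw [liftW, List.map_nil, List.prod_nil, coV_one]
    rfl
  | cons i w ih =>
    obtain ⟨hs, e⟩ := ih
    set s := track w r with hsdef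
    obtain ⟨hu, eu⟩ := autoOf_ref i ⟨s / 4, by omega⟩
    simp only at hu eu
    set u := slot ((moveOf i).get (Nat.div (s / 4) 64)) (Nat.mod (s / 4) 64) with hudef
    have ht : track (i :: w) r = 4 * (u / 4) + (s % 4 + u % 4) % 4 := rfl
    rw [ht]
    refine ⟨by omega, fun h => ?_⟩
    rw [liftW, List.map_cons, List.prod_cons, coV_mul]
    have e' : coV (w.map autoOf).prod ⟨imulV^[r % 4] (lineL ⟨r / 4, h⟩).1,
        iterate_mem latV_closed (lineL _).2 _⟩ =
        ⟨imulV^[s % 4] (lineL ⟨s / 4, by omega⟩).1, iterate_mem latV_closed (lineL _).2 _⟩ := Subtype.ext (e h)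
    rw [e', coV_iter, eu]
    show imulV^[s % 4] (imulV^[u % 4] (lineV (u / 4))) = imulV^[(4 * (u / 4) + (s % 4 + u % 4) % 4) % 4]
      (lineV ((4 * (u / 4) + (s % 4 + u % 4) % 4) / 4))
    rw [show (4 * (u / 4) + (s % 4 + u % 4) % 4) / 4 = u / 4 by omega,
      show (4 * (u / 4) + (s % 4 + u % 4) % 4) % 4 = (s % 4 + u % 4) % 4 by omega, ← Function.iterate_add_apply]
    exact iterate_imul_mod _ _

theorem getN_two (l : List Elt) : getN l 0 = l.getD 0 (0, 0) ∧ getN l 2 = l.getD 1 (0, 0) := ⟨rfl, rfl⟩

theorem gen_coe (i : ℕ) :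
    ((gen i : ↥ruGroup) : Equiv.Perm (Fin 4060)) = permOf 4060 (getN nodesG (alpha.getD i 0)) := rfl

theorem lineHom_autoOf {i : ℕ} (hi : i < 2) :
    lineHom (autoOf i) = ((gen i : ↥ruGroup) : Equiv.Perm (Fin 4060)) := by
  rcases (show i = 0 ∨ i = 1 by omega) with rfl | rfl
  · refine Eq.trans ?_ (gen_coe 0).symm
    refine Eq.trans ?_ (congrArg (fun a => permOf 4060 (getN nodesG a)) (rfl : (0 : ℕ) = alpha.getD 0 0))
    refine Eq.trans ?_ (congrArg (permOf 4060) (getN_two nodesG).1.symm)
    exact lineHom_gens.1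
  · refine Eq.trans ?_ (gen_coe 1).symm
    refine Eq.trans ?_ (congrArg (fun a => permOf 4060 (getN nodesG a)) (rfl : (2 : ℕ) = alpha.getD 1 0))
    refine Eq.trans ?_ (congrArg (permOf 4060) (getN_two nodesG).2.symm)
    exact lineHom_gens.2

theorem lineHom_liftW : ∀ w : List ℕ, (∀ i ∈ w, i < 2) →
    lineHom (liftW w) = ((wordVal w : ↥ruGroup) : Equiv.Perm (Fin 4060)) := by
  intro w
  induction w with
  | nil => intro _; simp [liftW, wordVal]
  | cons i w ih =>
    intro hw
    have := ih (fun j hj => hw j (List.mem_cons_of_mem _ hj))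
    simp only [liftW, wordVal] at this ⊢
    rw [List.map_cons, List.prod_cons, List.map_cons, List.prod_cons, map_mul, this,
      lineHom_autoOf (hw i List.mem_cons_self)]
    rfl

theorem abel_liftW {A : Type*} [CommGroup A] (φ : Cfsg.Spor.fourRu →* A) : ∀ w : List ℕ, (∀ i ∈ w, i < 2) →
    φ (liftW w) = φ auto0 ^ w.count 0 * φ auto1 ^ w.count 1 := by
  intro w
  induction w with
  | nil => intro _; simp [liftW]
  | cons i w ih =>
    intro hw
    have := ih (fun j hj => hw j (List.mem_cons_of_mem _ hj))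
    simp only [liftW] at this ⊢
    rw [List.map_cons, List.prod_cons, map_mul, this]
    rcases (show i = 0 ∨ i = 1 by have := hw i List.mem_cons_self; omega) with rfl | rfl
    · rw [List.count_cons_self, List.count_cons_of_ne (by decide), pow_succ',
        show autoOf 0 = auto0 from rfl, mul_assoc]
    · rw [List.count_cons_self, List.count_cons_of_ne (by decide), pow_succ',
        show autoOf 1 = auto1 from rfl, mul_left_comm]

/-- the first word -/
def coverW : List ℕ :=
  [0, 0, 1, 1, 0, 0, 1, 0, 1, 0, 0, 1, 1, 1, 0, 1, 1, 0, 0, 1, 1, 0, 0, 1, 1, 1, 0, 0, 0, 1, 0, 1]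

/-- the second word -/
def coverW' : List ℕ :=
  [1, 1, 1, 0, 1, 1, 0, 1, 0, 1, 1, 0, 0, 1, 0, 1, 0, 0, 0, 1, 1, 1, 0, 0, 1, 1, 0, 1, 0, 0, 0, 0]

theorem coverW_ok : ((coverW ++ coverW').all (fun i => Nat.blt i 2) &&
    Nat.beq (coverW.count 0) (coverW'.count 0) && Nat.beq (coverW.count 1) (coverW'.count 1) &&
    keyEq coverW coverW') = true := by
  decide +kernel

theorem cover_track : track coverW 0 = track coverW' 0 → False := by
  intro h
  have : Nat.beq (track coverW 0) (track coverW' 0) = false := by decide +kernel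
  rw [h, Nat.beq_refl] at this
  exact Bool.noConfusion this

/-- The cover is not split on the derived group. -/
theorem ker_inf_commutator : lineHom.ker ⊓ commutator ↥Cfsg.Spor.fourRu ≠ ⊥ := by
  have h := coverW_ok
  simp only [Bool.and_eq_true, List.all_eq_true, Nat.blt_eq, Nat.beq_eq, keyEq, beq_iff_eq] at h
  obtain ⟨⟨⟨hl, hc0⟩, hc1⟩, hkey⟩ := h
  have h1 : ∀ i ∈ coverW, i < 2 := fun i hi => hl i (List.mem_append_left _ hi)
  have h2 : ∀ i ∈ coverW', i < 2 := fun i hi => hl i (List.mem_append_right _ hi)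
  have hval : wordVal coverW = wordVal coverW' :=
    eq_of_key (fun i hi => by have := h1 i hi; omega) (fun i hi => by have := h2 i hi; omega) hkey
  intro hbot
  have hmem : liftW coverW * (liftW coverW')⁻¹ ∈ lineHom.ker ⊓ commutator ↥Cfsg.Spor.fourRu := by
    refine Subgroup.mem_inf.2 ⟨?_, ?_⟩
    · rw [MonoidHom.mem_ker, map_mul, map_inv, lineHom_liftW _ h1, lineHom_liftW _ h2, hval,
        mul_inv_cancel]
    · rw [← Abelianization.ker_of, MonoidHom.mem_ker, map_mul, map_inv,
        abel_liftW _ _ h1, abel_liftW _ _ h2, hc0, hc1, mul_inv_cancel]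
  rw [hbot, Subgroup.mem_bot, mul_inv_eq_one] at hmem
  obtain ⟨ha, ea⟩ := track_spec (show (0 : ℕ) < 4 * 4060 by norm_num) coverW
  obtain ⟨hb, eb⟩ := track_spec (show (0 : ℕ) < 4 * 4060 by norm_num) coverW'
  have e1 := (ea (by norm_num)).symm.trans ((congrArg (fun f => (coV f _).1) hmem).trans (eb (by norm_num)))
  set a := track coverW 0
  set b := track coverW' 0
  refine cover_track ?_
  simp only [refV] at e1
  have hd := line_unique (by omega) (by omega) e1
  rw [← hd] at e1
  have hm : a % 4 = b % 4 := by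
    have hne : ∀ m, m < 4 → m ≠ 0 → imulV^[m] (lineV (a / 4)) ≠ lineV (a / 4) := fun m hm hm0 e => by
      have e2 : imulV (imulV (lineV (a / 4))) ≠ lineV (a / 4) := fun e => lineV_ne (x := a / 4) (by omega) <| by
        rw [imul_twice] at e
        funext t
        have := congrFun e t
        rw [Pi.neg_apply] at this
        rw [Pi.zero_apply]; omega
      rcases (show m = 1 ∨ m = 2 ∨ m = 3 by omega) with rfl | rfl | rfl
      · exact e2 (by rw [show imulV (lineV (a / 4)) = lineV (a / 4) from e]; exact e)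
      · exact e2 e
      · have h1 : imulV (lineV (a / 4)) = lineV (a / 4) := by
          conv_rhs => rw [← imulV_four (lineV (a / 4))]
          exact congrArg imulV e.symm
        exact e2 (by rw [h1]; exact h1)
    by_contra hne'
    rcases Nat.lt_or_gt_of_ne hne' with hlt | hlt
    · refine hne (b % 4 - a % 4) (by omega) (by omega) (imulV_iterate_inj (a % 4) ?_)
      rw [← Function.iterate_add_apply, show a % 4 + (b % 4 - a % 4) = b % 4 by omega]
      exact e1.symm
    · refine hne (a % 4 - b % 4) (by omega) (by omega) (imulV_iterate_inj (b % 4) ?_)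
      rw [← Function.iterate_add_apply, show b % 4 + (a % 4 - b % 4) = a % 4 by omega]
      exact e1
  omega

end Cfsg.Agent.RigidGraph.Ru.Mult
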