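import Cfsg.Agent.Lib.RigidGraph.Ru.Mult.ChecksOdd
import Cfsg.Agent.Lib.RigidGraph.Ru.Mult.ChecksTwoA
import Cfsg.Agent.Lib.RigidGraph.Ru.Mult.ChecksTwoB
import Cfsg.Agent.Lib.RigidGraph.Ru.Mult.ChecksTwoE
import Cfsg.Agent.Lib.RigidGraph.Ru.Mult.Cover
import Cfsg.Agent.Lib.SchurMult.Bound

/-! The Schur multiplier of the group on 4060 points is cyclic of order two. -/

set_option autoImplicit false
set_option maxRecDepth 100000

namespace Cfsg.Agent.RigidGraph.Ru.Mult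

variable {X : Type*} [Group X] [Finite X] (ξ : X →* ↥ruGroup) (hs : Function.Surjective ξ)
  (hc : ξ.ker ≤ Subgroup.center X)

include hs hc

theorem certified_one {U : Subgroup ↥ruGroup} {m : ℕ} (hm : U.index = m)
    (hk : ∀ w : U.comap ξ, w ∈ commutator (U.comap ξ) → ξ w = 1 → (w : X) = 1) :
    ∃ S : Finset X, S.card ≤ 1 ∧ ∀ z ∈ ξ.ker ⊓ commutator X, z ^ m ∈ S := by
  refine ⟨{1}, by simp, fun z hz => ?_⟩
  obtain ⟨hz1, hz2⟩ := Subgroup.mem_inf.1 hz
  obtain ⟨h, hmem⟩ := SylowKill.transfer_step ξ hs U (hc hz1) hz1 hz2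
  rw [Finset.mem_singleton, ← hm]
  exact hk ⟨_, h⟩ hmem (by simp [show ξ z = 1 from hz1])

theorem certified_two {U : Subgroup ↥ruGroup} {m : ℕ} (hm : U.index = m) {x : X}
    (hk : ∀ w : U.comap ξ, w ∈ commutator (U.comap ξ) → ξ w = 1 → (w : X) = 1 ∨ (w : X) = x) :
    ∃ S : Finset X, S.card ≤ 2 ∧ ∀ z ∈ ξ.ker ⊓ commutator X, z ^ m ∈ S := by
  classical
  refine ⟨{1, x}, Finset.card_insert_le _ _ |>.trans (by simp), fun z hz => ?_⟩
  obtain ⟨hz1, hz2⟩ := Subgroup.mem_inf.1 hz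
  obtain ⟨h, hmem⟩ := SylowKill.transfer_step ξ hs U (hc hz1) hz1 hz2
  rw [Finset.mem_insert, Finset.mem_singleton, ← hm]
  exact hk ⟨_, h⟩ hmem (by simp [show ξ z = 1 from hz1])

theorem card_inf_le : Nat.card ↥(ξ.ker ⊓ commutator X) ≤ 2 := by
  refine SchurMult.card_le_prod
    [(145926144000 / 29 ^ 1, 1), (145926144000 / 13 ^ 1, 1), (145926144000 / 7 ^ 1, 1),
      (145926144000 / 5 ^ 3, 1), (145926144000 / 3 ^ 3, 1), (145926144000 / 2 ^ 14, 2)]
    0 _ (inf_le_left.trans hc) (fun z _ => pow_zero z) (by decide +kernel) ?_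
  simp only [List.forall_mem_cons, List.not_mem_nil, IsEmpty.forall_iff, implies_true, and_true]
  refine ⟨?_, ?_, ?_, ?_, ?_, ?_⟩
  · obtain ⟨U, hU, hk⟩ := kill ξ hs hc p29_wf p29_facts p29_rows p29_rels p29_derived p29_chain p29_ne p29_seq
      (p := 29) (by norm_num) rfl
    exact certified_one ξ hs hc (hU.trans (by rw [p29_alen])) hk
  · obtain ⟨U, hU, hk⟩ := kill ξ hs hc p13_wf p13_facts p13_rows p13_rels p13_derived p13_chain p13_ne p13_seq
      (p := 13) (by norm_num) rfl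
    exact certified_one ξ hs hc (hU.trans (by rw [p13_alen])) hk
  · obtain ⟨U, hU, hk⟩ := kill ξ hs hc p7_wf p7_facts p7_rows p7_rels p7_derived p7_chain p7_ne p7_seq
      (p := 7) (by norm_num) rfl
    exact certified_one ξ hs hc (hU.trans (by rw [p7_alen])) hk
  · obtain ⟨U, hU, hk⟩ := kill ξ hs hc p5_wf p5_facts p5_rows p5_rels p5_derived p5_chain p5_ne p5_seq
      (p := 5) (by norm_num) rfl
    exact certified_one ξ hs hc (hU.trans (by rw [p5_alen])) hk
  · obtain ⟨U, hU, hk⟩ := kill ξ hs hc p3_wf p3_facts p3_rows p3_rels p3_derived p3_chain p3_ne p3_seq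
      (p := 3) (by norm_num) rfl
    exact certified_one ξ hs hc (hU.trans (by rw [p3_alen])) hk
  · obtain ⟨U, hU, x, hk⟩ := killMod ξ hs hc p2_wf p2_facts p2_rows p2_rels p2_derived p2_chain p2_ne p2_seq
      (p := 2) (by norm_num) rfl
    exact certified_two ξ hs hc (hU.trans (by rw [p2_alen])) hk

omit hs hc

open Cfsg.Spor in
theorem multiplier : Cfsg.HasCyclicSchurMultiplier Cfsg.Spor.Ru 2 := by
  haveI : Finite Ru := Nat.finite_of_card_ne_zero (by rw [ru_facts.2.1]; norm_num)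
  have hle : Nat.card (Schur.Multiplier Ru) ≤ 2 := by
    obtain ⟨⟨Γ, iG, iF, σ, ⟨hσ, hσc, hσm⟩, ⟨e⟩⟩, -⟩ := Schur.hasSchurMultiplier_multiplier Ru
    have hk : (ruEquiv.toMonoidHom.comp σ).ker = σ.ker := by
      ext y; simp [MonoidHom.mem_ker]
    have h := card_inf_le (ruEquiv.toMonoidHom.comp σ) (ruEquiv.surjective.comp hσ) (hk.le.trans hσc)
    rwa [hk, inf_eq_left.2 hσm, Nat.card_congr e.toEquiv] at h
  refine SchurMult.cyclic_two_of (QuotientGroup.mk' (Subgroup.center ↥fourRu))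
    (QuotientGroup.mk'_surjective _) (le_of_eq (QuotientGroup.ker_mk' _)) ?_ hle
  rw [QuotientGroup.ker_mk', ← ker_eq_center.1]
  exact ker_inf_commutator

end Cfsg.Agent.RigidGraph.Ru.Mult
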